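import Groth.Agent.MilnorKLambda.Recip.NormFormula
import Groth.Agent.FunFld1.Residues
import Mathlib.Algebra.BigOperators.Finprod

/-!
# Weil reciprocity for function fields
-/

set_option autoImplicit false
universe u

open WithZero FunFld Groth.FunFld1 Polynomial
open scoped IntermediateField

namespace Groth.MilnorKLambda.Recip

variable {k K : Type u} [Field k] [IsAlgClosed k] [Field K] [Algebra k K]

/-- The product of all symbols. -/
noncomputable def total (f g : K) : k := ∏ᶠ P : Place k K, symb P f g

theorem prod_zpow_eq {ι : Type*} {c : k} (hc : c ≠ 0) (s : Finset ι) (n : ι → ℤ) :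
    ∏ i ∈ s, c ^ n i = c ^ ∑ i ∈ s, n i := by
  classical
  induction s using Finset.induction with
  | empty => simp
  | insert i s hi ih => rw [Finset.prod_insert hi, Finset.sum_insert hi, ih, zpow_add₀ hc]

theorem finite_support_symb (hF : IsFF k K) {f g : K} (hf : f ≠ 0) :
    (Function.mulSupport fun P : Place k K => symb P f g).Finite := by
  refine ((hF.finite_support_ord f).union (hF.finite_support_ord g)).subset fun P hP => ?_
  by_contra h
  simp only [Set.mem_union, Function.mem_support, not_or, not_not] at h
  exact hP (symb_of_ord_zero (deg_eq_one hF P) hf h.1 h.2)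

theorem total_mul_left (hF : IsFF k K) {f f' g : K} (hf : f ≠ 0) (hf' : f' ≠ 0) (hg : g ≠ 0) :
    total (k := k) (f * f') g = total f g * total f' g := by
  rw [total, total, total, ← finprod_mul_distrib (finite_support_symb hF hf) (finite_support_symb hF hf')]
  exact finprod_congr fun P => symb_mul_left (deg_eq_one hF P) hf hf' hg

theorem sum_ord (hF : IsFF k K) (g : K) : ∀ s : Finset (Place k K), (∀ P, P.ord g ≠ 0 → P ∈ s) →
    ∑ P ∈ s, P.ord g = 0 := by
  intro s hs
  have h := hF.deg_div g
  rw [Divisor.deg, Finsupp.sum_of_support_subset _ (fun P hP => hs P (by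
    rw [Finsupp.mem_support_iff, hF.div_apply] at hP; exact hP)) _ (by simp)] at h
  rw [← h]
  exact Finset.sum_congr rfl fun P _ => by rw [hF.div_apply, deg_eq_one hF P, Nat.cast_one, mul_one]

theorem total_const_left (hF : IsFF k K) {c : k} (hc : c ≠ 0) (g : K) :
    total (k := k) (algebraMap k K c) g = 1 := by
  classical
  have hc' : algebraMap k K c ≠ 0 := (_root_.map_ne_zero _).2 hc
  have h : ∀ P : Place k K, symb P (algebraMap k K c) g = c ^ P.ord g := fun P => by
    rw [symb_of_ord_left (deg_eq_one hF P) hc' (FunFld1.ord_algebraMap P c), ev_algebraMap]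
  have hfin := hF.finite_support_ord g
  rw [total, finprod_congr h, finprod_eq_prod_of_mulSupport_subset _ (s := hfin.toFinset) fun P hP => by
    rw [Set.Finite.coe_toFinset, Function.mem_support]
    intro h0
    exact hP (show c ^ P.ord g = 1 by rw [h0, zpow_zero])]
  rw [prod_zpow_eq hc, sum_ord hF g _ fun P hP => hfin.mem_toFinset.2 hP, zpow_zero]

omit [IsAlgClosed k] in
theorem exists_zero (hF : IsFF k K) {y : K} (hy : Transcendental k y)
    (htop : IntermediateField.adjoin k ({y} : Set K) = ⊤) [IsAlgClosed k] :
    ∃ P : Place k K, P.ord y = 1 ∧ ∀ Q : Place k K, Q ≠ P → Q.ord y ≤ 0 := by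
  classical
  obtain ⟨P, hP⟩ := hF.exists_zero_place hy
  have hy0 : y ≠ 0 := fun h => hy (h ▸ isAlgebraic_zero)
  have hpos : 0 < P.ord y := (val_lt_one_iff P hy0).1 hP
  have h1 : (zeroDiv k y).deg = 1 := by
    rw [hF.deg_zeroDiv_eq hy, IntermediateField.finrank_eq_one_iff_eq_top.mpr htop, Nat.cast_one]
  have key : ∀ Q : Place k K, Q ≠ P → P.ord y + max (Q.ord y) 0 ≤ 1 := fun Q hQ => by
    have hle : Finsupp.single P (P.ord y) + Finsupp.single Q (max (Q.ord y) 0) ≤ zeroDiv k y := by
      intro R
      rw [Finsupp.add_apply, hF.zeroDiv_apply]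
      rcases eq_or_ne R P with rfl | hR
      · rw [Finsupp.single_eq_same, Finsupp.single_eq_of_ne hQ.symm, add_zero]; exact le_max_left _ _
      · rw [Finsupp.single_eq_of_ne hR, zero_add]
        rcases eq_or_ne R Q with rfl | hR'
        · rw [Finsupp.single_eq_same]
        · rw [Finsupp.single_eq_of_ne hR']; exact le_max_right _ _
    have := deg_mono hle
    rwa [deg_add, deg_single, deg_single, deg_eq_one hF P, deg_eq_one hF Q, Nat.cast_one, mul_one, mul_one, h1] at this
  refine ⟨P, ?_, fun Q hQ => ?_⟩
  · have hle : Finsupp.single P (P.ord y) ≤ zeroDiv k y := by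
      intro R
      rw [hF.zeroDiv_apply]
      rcases eq_or_ne R P with rfl | hR
      · rw [Finsupp.single_eq_same]; exact le_max_left _ _
      · rw [Finsupp.single_eq_of_ne hR]; exact le_max_right _ _
    have := deg_mono hle
    rw [deg_single, deg_eq_one hF P, Nat.cast_one, mul_one, h1] at this
    omega
  · have := key Q hQ
    omega

theorem transcendental_sub_const {x : K} (hx : Transcendental k x) (a : k) :
    Transcendental k (x - algebraMap k K a) := fun h => hx (by
  have := h.add (isAlgebraic_algebraMap (R := k) (A := K) a)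
  rwa [sub_add_cancel] at this)

omit [IsAlgClosed k] in
theorem adjoin_sub_const {x : K} (htop : IntermediateField.adjoin k ({x} : Set K) = ⊤) (a : k) :
    IntermediateField.adjoin k ({x - algebraMap k K a} : Set K) = ⊤ := by
  refine top_le_iff.mp (htop.ge.trans (IntermediateField.adjoin_simple_le_iff.mpr ?_))
  have h := add_mem (IntermediateField.mem_adjoin_simple_self k (x - algebraMap k K a))
    (IntermediateField.algebraMap_mem (IntermediateField.adjoin k ({x - algebraMap k K a} : Set K)) a)
  rwa [sub_add_cancel] at h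

/-- Reciprocity on a rational field, against the generator. -/
theorem total_linear (hF : IsFF k K) {x : K} (hx : Transcendental k x)
    (htop : IntermediateField.adjoin k ({x} : Set K) = ⊤) (a : k) : total (k := k) (x - algebraMap k K a) x = 1 := by
  classical
  have hx0 : x ≠ 0 := fun h => hx (h ▸ isAlgebraic_zero)
  obtain ⟨P0, h0, h0'⟩ := exists_zero hF hx htop
  obtain ⟨Pi, hi, hi'⟩ := exists_zero hF (IsFF.transcendental_inv hx) (by rw [IsFF.adjoin_inv_eq]; exact htop)
  rw [ord_inv] at hi
  have hi2 : ∀ Q : Place k K, Q ≠ Pi → 0 ≤ Q.ord x := fun Q hQ => by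
    have := hi' Q hQ
    rw [ord_inv] at this
    omega
  have hne : P0 ≠ Pi := fun h => by rw [h] at h0; omega
  by_cases ha : a = 0
  · subst ha
    rw [map_zero, sub_zero, total, finprod_congr fun P => symb_self_of P hx0,
      finprod_eq_prod_of_mulSupport_subset _ (s := {P0, Pi}) fun P hP => by
        by_contra h
        simp only [Finset.coe_insert, Finset.coe_singleton, Set.mem_insert_iff, Set.mem_singleton_iff, not_or] at h
        refine hP (show ((-1 : k)) ^ P.ord x = 1 from ?_)
        rw [show P.ord x = 0 by have := h0' P h.1; have := hi2 P h.2; omega, zpow_zero],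
      Finset.prod_pair hne, h0, show Pi.ord x = -1 by omega]
    simp
  · set z := x - algebraMap k K a with hzdef
    have hzt : Transcendental k z := transcendental_sub_const hx a
    have hz0 : z ≠ 0 := fun h => hzt (h ▸ isAlgebraic_zero)
    obtain ⟨Pa, hpa, hpa'⟩ := exists_zero hF hzt (adjoin_sub_const htop a)
    have hca : ∀ P : Place k K, P.1 (algebraMap k K a) = 1 := fun P => val_algebraMap P ha
    have hxz : x = z + algebraMap k K a := by rw [hzdef]; ring
    have hax : Pa.1 x = 1 := by
      rw [hxz, Valuation.map_add_eq_of_lt_right _ (by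
        rw [hca]; exact (val_lt_one_iff Pa hz0).2 (by omega)), hca]
    have h0z : P0.1 z = 1 := by
      rw [hzdef, Valuation.map_sub_eq_of_lt_right _ (by
        rw [hca]; exact (val_lt_one_iff P0 hx0).2 (by omega)), hca]
    have hiz : Pi.1 z = Pi.1 x := by
      rw [hzdef, Valuation.map_sub_eq_of_lt_left _ (by rw [hca]; exact (one_lt_val_iff Pi x).2 (by omega))]
    have hne1 : Pa ≠ P0 := fun h => by rw [h] at hax; rw [val_eq_one_iff P0 hx0] at hax; omega
    have hne2 : Pa ≠ Pi := fun h => by rw [h] at hax; rw [val_eq_one_iff Pi hx0] at hax; omega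
    have hiz' : Pi.ord z = -1 := by
      rw [Place.ord, hiz]; exact (show Pi.ord x = -1 by omega)
    rw [total, finprod_eq_prod_of_mulSupport_subset _ (s := {Pa, P0, Pi}) fun P hP => by
      by_contra h
      simp only [Finset.coe_insert, Finset.coe_singleton, Set.mem_insert_iff, Set.mem_singleton_iff, not_or] at h
      have hPx : P.ord x = 0 := by have := h0' P h.2.1; have := hi2 P h.2.2; omega
      have hz1 : P.1 z ≤ 1 := by
        rw [hzdef]
        exact (P.1.map_sub _ _).trans (max_le ((val_le_one_iff P x).2 hPx.ge) (hca P).le)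
      have hPz : P.ord z = 0 := le_antisymm (hpa' P h.1) ((val_le_one_iff P z).1 hz1)
      exact hP (symb_of_ord_zero (deg_eq_one hF P) hz0 hPz hPx),
      Finset.prod_insert (by simp [hne1, hne2]), Finset.prod_pair hne]
    have e0 : symb P0 z x = -a := by
      rw [symb_of_ord_left (deg_eq_one hF P0) hz0 ((val_eq_one_iff P0 hz0).1 h0z), h0, zpow_one]
      refine ev_eq ?_
      rw [hzdef, map_neg, sub_neg_eq_add, sub_add_cancel]
      exact (val_lt_one_iff P0 hx0).2 (by omega)
    have ea : symb Pa z x = a⁻¹ := by
      rw [symb_swap (deg_eq_one hF Pa) hx0 hz0, symb_of_ord_left (deg_eq_one hF Pa) hx0 ((val_eq_one_iff Pa hx0).1 hax),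
        hpa, zpow_one]
      congr 1
      refine ev_eq ?_
      rw [← hzdef]
      exact (val_lt_one_iff Pa hz0).2 (by omega)
    have ei : symb Pi z x = -1 := by
      refine ev_eq ?_
      rw [arg, hiz', show Pi.ord x = -1 by omega, map_neg, map_one,
        show (-1 : K) ^ ((-1 : ℤ) * -1) * z ^ (-1 : ℤ) * x ^ (-(-1 : ℤ)) - -1 = -(algebraMap k K a) * z⁻¹ by
          simp only [neg_mul_neg, one_mul, zpow_one, neg_neg, zpow_neg_one]
          rw [hxz]
          field_simp
          ring,
        map_mul, Valuation.map_neg, hca, one_mul, map_inv₀, hiz]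
      exact inv_lt_one_of_one_lt₀ ((one_lt_val_iff Pi x).2 (by omega))
    rw [ea, e0, ei]
    field_simp

/-- Reciprocity on a rational field. -/
theorem total_rational (hF : IsFF k K) {x : K} (hx : Transcendental k x)
    (htop : IntermediateField.adjoin k ({x} : Set K) = ⊤) {f : K} (hf : f ≠ 0) : total (k := k) f x = 1 := by
  classical
  have hx0 : x ≠ 0 := fun h => hx (h ▸ isAlgebraic_zero)
  have hinj : Function.Injective (aeval x : k[X] →ₐ[k] K) := transcendental_iff_injective.mp hx
  have hpoly : ∀ p : k[X], p ≠ 0 → total (k := k) (aeval x p) x = 1 := by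
    intro p hp
    have hsplit := (IsAlgClosed.splits p).eq_prod_roots
    generalize p.roots = s at hsplit
    rw [hsplit] at hp ⊢
    clear hsplit
    have hl : p.leadingCoeff ≠ 0 := fun h => hp (by rw [h, map_zero, zero_mul])
    induction s using Multiset.induction_on with
    | empty => rw [Multiset.map_zero, Multiset.prod_zero, mul_one, aeval_C]; exact total_const_left hF hl x
    | cons r s ih =>
      rw [Multiset.map_cons, Multiset.prod_cons, mul_left_comm] at hp ⊢
      have h1 := left_ne_zero_of_mul hp
      have h2 := right_ne_zero_of_mul hp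
      rw [map_mul, total_mul_left hF (fun h => h1 (hinj (h.trans (map_zero _).symm)))
        (fun h => h2 (hinj (h.trans (map_zero _).symm))) hx0, ih h2, mul_one, map_sub, aeval_X, aeval_C]
      exact total_linear hF hx htop r
  obtain ⟨p, q, rfl⟩ := (IntermediateField.mem_adjoin_simple_iff k f).1 (htop ▸ IntermediateField.mem_top)
  rw [div_ne_zero_iff] at hf
  have h := hpoly p (fun h => hf.1 (by rw [h, map_zero]))
  have e : aeval x p = aeval x p / aeval x q * aeval x q := by rw [div_mul_cancel₀ _ hf.2]
  rw [e, total_mul_left hF (div_ne_zero hf.1 hf.2) hf.2 hx0, hpoly q (fun h => hf.2 (by rw [h, map_zero])), mul_one] at h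
  exact h

/-- Weil reciprocity. -/
theorem weil_reciprocity (hF : IsFF k K) {f g : K} (hf : f ≠ 0) (hg : g ≠ 0) : total (k := k) f g = 1 := by
  classical
  by_cases hgc : Transcendental k g
  · set E := IntermediateField.adjoin k ({g} : Set K)
    have : FiniteDimensional E K := hF.finiteDimensional hgc
    have hE : IsFF k E := isFF_adjoin hgc
    set y := IntermediateField.AdjoinSimple.gen k g
    have hy : algebraMap E K y = g := IntermediateField.AdjoinSimple.algebraMap_gen k g
    have hyt : Transcendental k y := fun h => hgc (h.algHom E.val)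
    have hy0 : y ≠ 0 := fun h => hyt (h ▸ isAlgebraic_zero)
    have h := total_rational hE hyt (adjoin_gen_self g) (f := Algebra.norm E f) (Algebra.norm_ne_zero_iff.2 hf)
    rw [total] at h ⊢
    rw [← h, ← finprod_congr fun P => symb_norm hE P (K' := K) hf hy0]
    choose down hdown using fun Q : Place k K => hE.exists_isOver Q
    have hfin := finite_support_symb (g := g) hF hf
    rw [hy, finprod_eq_prod_of_mulSupport_subset _ (s := hfin.toFinset) (by rw [Set.Finite.coe_toFinset]),
      finprod_eq_prod_of_mulSupport_subset _ (s := hfin.toFinset.image down) fun P hP => by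
        by_contra hc
        refine hP (Finset.prod_eq_one fun Q hQ => ?_)
        by_contra hne
        exact hc (Finset.mem_coe.2 (Finset.mem_image.2 ⟨Q, hfin.mem_toFinset.2 hne, over_unique (hdown Q) (hE.mem_above.1 hQ)⟩))]
    rw [← Finset.prod_biUnion (fun P _ P' _ hne => Finset.disjoint_left.2 fun Q hQ hQ' =>
      hne (over_unique (hE.mem_above.1 hQ) (hE.mem_above.1 hQ')))]
    refine Finset.prod_subset (fun Q hQ => ?_) fun Q _ hQ => ?_
    · exact Finset.mem_biUnion.2 ⟨down Q, Finset.mem_image_of_mem _ hQ, hE.mem_above.2 (hdown Q)⟩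
    · by_contra hne
      exact hQ (hfin.mem_toFinset.2 hne)
  · obtain ⟨c, rfl⟩ : ∃ c, algebraMap k K c = g := by
      have hint : IsIntegral k g := (not_not.1 hgc).isIntegral
      exact minpoly.mem_range_of_degree_eq_one k g
        (IsAlgClosed.degree_eq_one_of_irreducible k (minpoly.irreducible hint))
    have hc : c ≠ 0 := fun h => hg (by rw [h, map_zero])
    have h : ∀ P : Place k K, symb P f (algebraMap k K c) = (symb P (algebraMap k K c) f)⁻¹ := fun P =>
      symb_swap (deg_eq_one hF P) hg hf
    rw [total, finprod_congr h, finprod_inv_distrib, ← total, total_const_left hF hc, inv_one]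

end Groth.MilnorKLambda.Recip
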