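import Groth.Prelude.Def_W4bk6serrecg25LocSym
import Groth.Agent.CurveBridge.Main
import Groth.Agent.VarietyBC.SmoothChart
import Groth.Agent.RefRank.Ord
import Groth.Agent.MilnorKLambda.Recip.Reciprocity
import Mathlib.AlgebraicGeometry.AlgClosed.Basic

/-!
# Rational points of a curve as places of its function field
-/

set_option autoImplicit false
universe u

open CategoryTheory AlgebraicGeometry IsLocalRing
open scoped Groth.CurveBridge

namespace Groth.MilnorKLambda.Recip

/-- The dictionary between rational points and places. -/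
structure Bridge {k : Type u} [Field k] {X : Scheme.{u}} [IsIntegral X] (c : X ⟶ Spec (CommRingCat.of k)) where
  alg : Algebra k X.functionField
  alg_eq : @algebraMap k X.functionField _ _ alg = LocSym.constFun c
  isFF : @Groth.FunFld1.IsFF k X.functionField _ _ alg
  e : LocSym.Pt c ≃ @FunFld.Place k X.functionField _ _ alg
  ord_eq : ∀ (x : LocSym.Pt c) (g : X.functionField), x.ord g = @FunFld.Place.ord k X.functionField _ _ alg (e x) g

variable {k : Type u} [Field k] [IsAlgClosed k] {X : Scheme.{u}} [IsIntegral X]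

theorem ordFrac_zero {A : Type u} [CommRing A] {F : Type u} [Field F] [Algebra A F] :
    CycAlg.ordFrac A F (0 : F) = 0 := by
  unfold CycAlg.ordFrac
  split
  · rw [map_zero]; rfl
  · rfl

theorem placeOrd_zero {F : Type u} [Field F] [Algebra k F] (P : FunFld.Place k F) : P.ord (0 : F) = 0 := by
  simp [FunFld.Place.ord]

theorem ordFrac_eq_placeOrd [X.Over (Spec (CommRingCat.of k))]
    [IsProper (X ↘ Spec (CommRingCat.of k))] (h : Groth.CurveBridge.IsRegCurve X) (x : Groth.CurveBridge.Pt X)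
    (g : X.functionField) :
    CycAlg.ordFrac (X.presheaf.stalk x.1) X.functionField g =
      (Groth.CurveBridge.placeAt (k := k) h x).ord g := by
  haveI := h.dvr (k := k) x
  set P := Groth.CurveBridge.placeAt (k := k) h x
  rcases eq_or_ne g 0 with rfl | hg
  · rw [ordFrac_zero, placeOrd_zero]
  obtain ⟨ϖ, hϖ⟩ := IsDiscreteValuationRing.exists_irreducible (X.presheaf.stalk x.1)
  have hinj := IsFractionRing.injective (X.presheaf.stalk x.1) X.functionField
  have hne : ∀ a : X.presheaf.stalk x.1, a ≠ 0 → algebraMap _ X.functionField a ≠ 0 := fun a ha h0 =>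
    ha (hinj (h0.trans (map_zero _).symm))
  have hu : ∀ u : (X.presheaf.stalk x.1)ˣ, P.ord (algebraMap _ X.functionField (u : X.presheaf.stalk x.1)) = 0 := fun u => by
    refine (Groth.FunFld1.val_eq_one_iff P (hne _ u.ne_zero)).1 (le_antisymm ?_ (not_lt.1 fun hlt => ?_))
    · exact (Groth.CurveBridge.placeAt_le_one_iff h x _).2 ⟨_, rfl⟩
    · exact (IsLocalRing.mem_maximalIdeal _).1 ((Groth.CurveBridge.placeAt_lt_one_iff h x _).1 hlt) u.isUnit
  have hord : ∀ a : X.presheaf.stalk x.1, a ≠ 0 → ∀ (n : ℕ) (u : (X.presheaf.stalk x.1)ˣ), a = u * ϖ ^ n →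
      P.ord (algebraMap _ X.functionField a) = n * P.ord (algebraMap _ X.functionField ϖ) := by
    rintro a - n u rfl
    rw [map_mul, map_pow, Groth.FunFld1.ord_mul P (hne _ u.ne_zero) (pow_ne_zero _ (hne _ hϖ.ne_zero)), hu, zero_add]
    induction n with
    | zero => rw [pow_zero, Nat.cast_zero, zero_mul, ← map_one (algebraMap k X.functionField), Groth.FunFld1.ord_algebraMap]
    | succ n ih =>
      rw [pow_succ, Groth.FunFld1.ord_mul P (pow_ne_zero _ (hne _ hϖ.ne_zero)) (hne _ hϖ.ne_zero), ih]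
      push_cast; ring
  have hϖ1 : P.ord (algebraMap _ X.functionField ϖ) = 1 := by
    have hpos : 0 < P.ord (algebraMap _ X.functionField ϖ) := (Groth.FunFld1.val_lt_one_iff P (hne _ hϖ.ne_zero)).1
      ((Groth.CurveBridge.placeAt_lt_one_iff h x _).2 hϖ.not_isUnit)
    obtain ⟨t, ht0, ht⟩ := Groth.FunFld1.exists_uniformizer P
    obtain ⟨a, b, hb, hab⟩ := IsFractionRing.div_surjective (A := X.presheaf.stalk x.1) t
    have ha : a ≠ 0 := fun h0 => ht0 (by rw [← hab, h0, map_zero, zero_div])
    have hb' : b ≠ 0 := nonZeroDivisors.ne_zero hb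
    obtain ⟨n, u, hn⟩ := IsDiscreteValuationRing.eq_unit_mul_pow_irreducible ha hϖ
    obtain ⟨m, v, hm⟩ := IsDiscreteValuationRing.eq_unit_mul_pow_irreducible hb' hϖ
    have h1 := Groth.FunFld1.ord_eq_of_val_eq P ht
    rw [← hab, div_eq_mul_inv, Groth.FunFld1.ord_mul P (hne _ ha) (inv_ne_zero (hne _ hb')),
      Groth.FunFld1.ord_inv, hord a ha n u hn, hord b hb' m v hm] at h1
    exact Int.eq_one_of_dvd_one hpos.le ⟨(n : ℤ) - m, by linear_combination -h1⟩
  obtain ⟨a, b, hb, rfl⟩ := IsFractionRing.div_surjective (A := X.presheaf.stalk x.1) g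
  have ha : a ≠ 0 := fun h0 => hg (by rw [h0, map_zero, zero_div])
  have hb' : b ≠ 0 := nonZeroDivisors.ne_zero hb
  obtain ⟨n, u, hn⟩ := IsDiscreteValuationRing.eq_unit_mul_pow_irreducible ha hϖ
  obtain ⟨m, v, hm⟩ := IsDiscreteValuationRing.eq_unit_mul_pow_irreducible hb' hϖ
  have hlen : ∀ (z : X.presheaf.stalk x.1) (l : ℕ) (w : (X.presheaf.stalk x.1)ˣ), z = w * ϖ ^ l → (Ring.ord _ z).toNat = l := by
    rintro z l w rfl
    rw [Ring.ord_mul_of_isUnit_left (Units.isUnit w), Ring.ord_pow (mem_nonZeroDivisors_of_ne_zero hϖ.ne_zero),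
      Amb.ord_uniformizer ((IsDiscreteValuationRing.irreducible_iff_uniformizer ϖ).1 hϖ), nsmul_one, ENat.toNat_coe]
  rw [Groth.RefRank.ordFrac_div' ha hb', hlen a n u hn, hlen b m v hm, div_eq_mul_inv,
    Groth.FunFld1.ord_mul P (hne _ ha) (inv_ne_zero (hne _ hb')), Groth.FunFld1.ord_inv, hord a ha n u hn,
    hord b hb' m v hm, hϖ1]
  ring

theorem constFun_eq [X.Over (Spec (CommRingCat.of k))] :
    (Groth.CurveBridge.algFF k X).algebraMap = LocSym.constFun (X ↘ Spec (CommRingCat.of k)) := rfl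

theorem nonempty_bridge (c : X ⟶ Spec (CommRingCat.of k)) [hp : IsProper c] [hs : Smooth c]
    (hdim : topologicalKrullDim X = 1) : Nonempty (Bridge c) := by
  letI : X.Over (Spec (CommRingCat.of k)) := ⟨c⟩
  haveI : IsProper (X ↘ Spec (CommRingCat.of k)) := hp
  haveI : Smooth (X ↘ Spec (CommRingCat.of k)) := hs
  have hreg : Groth.CurveBridge.IsRegCurve X := ⟨hdim, fun x =>
    Groth.VarietyBC.isRegularLocalRing_of_mem_smoothLocus (k := k)
      (by rw [Scheme.Hom.smoothLocus_eq_top]; trivial)⟩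
  refine ⟨{ alg := Groth.CurveBridge.algFF k X
            alg_eq := rfl
            isFF := Groth.CurveBridge.isFF k X hdim
            e := (pointEquivClosedPoint c).trans (Groth.CurveBridge.placeEquiv hreg)
            ord_eq := fun x g => ordFrac_eq_placeOrd hreg ⟨x.pt, (pointEquivClosedPoint c x).2⟩ g }⟩

end Groth.MilnorKLambda.Recip
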