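import Groth.Agent.MilnorKLambda.Recip.Bridge

/-!
# Calculus of orders, values and congruences on a curve
-/

set_option autoImplicit false
universe u v

open CategoryTheory AlgebraicGeometry WithZero

namespace Groth.MilnorKLambda.Recip

variable {k : Type u} [Field k] [IsAlgClosed k] {X : Scheme.{u}} [IsIntegral X] {c : X ⟶ Spec (CommRingCat.of k)}
  [IsProper c] [Smooth c] (hdim : topologicalKrullDim X = 1)
include hdim

theorem ord_mul {g h : X.functionField} (hg : g ≠ 0) (hh : h ≠ 0) (x : LocSym.Pt c) :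
    x.ord (g * h) = x.ord g + x.ord h := by
  obtain ⟨B⟩ := nonempty_bridge c hdim
  letI := B.alg
  rw [B.ord_eq, B.ord_eq, B.ord_eq]
  exact FunFld1.ord_mul _ hg hh

theorem ord_inv (g : X.functionField) (x : LocSym.Pt c) : x.ord g⁻¹ = -x.ord g := by
  obtain ⟨B⟩ := nonempty_bridge c hdim
  letI := B.alg
  rw [B.ord_eq, B.ord_eq]
  exact FunFld1.ord_inv _ g

theorem ord_div {g h : X.functionField} (hg : g ≠ 0) (hh : h ≠ 0) (x : LocSym.Pt c) :
    x.ord (g / h) = x.ord g - x.ord h := by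
  rw [div_eq_mul_inv, ord_mul hdim hg (inv_ne_zero hh), ord_inv hdim, sub_eq_add_neg]

theorem ord_zero (x : LocSym.Pt c) : x.ord (0 : X.functionField) = 0 := ordFrac_zero

theorem ord_const (a : k) (x : LocSym.Pt c) : x.ord (LocSym.constFun c a) = 0 := by
  obtain ⟨B⟩ := nonempty_bridge c hdim
  letI := B.alg
  rw [B.ord_eq, ← show algebraMap k X.functionField a = LocSym.constFun c a from congrArg (fun φ => φ a) B.alg_eq]
  exact FunFld1.ord_algebraMap _ a

theorem ord_one (x : LocSym.Pt c) : x.ord (1 : X.functionField) = 0 := by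
  rw [← map_one (LocSym.constFun c)]; exact ord_const hdim 1 x

theorem ord_neg (g : X.functionField) (x : LocSym.Pt c) : x.ord (-g) = x.ord g := by
  obtain ⟨B⟩ := nonempty_bridge c hdim
  letI := B.alg
  rw [B.ord_eq, B.ord_eq, FunFld.Place.ord, FunFld.Place.ord, Valuation.map_neg]

theorem finite_ord_ne (g : X.functionField) : {x : LocSym.Pt c | x.ord g ≠ 0}.Finite := by
  obtain ⟨B⟩ := nonempty_bridge c hdim
  letI := B.alg
  refine ((B.isFF.finite_support_ord g).preimage B.e.injective.injOn).subset fun x hx => ?_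
  rw [Set.mem_preimage, Function.mem_support, ← B.ord_eq]
  exact hx

theorem sum_ord_eq_zero (g : X.functionField) (s : Finset (LocSym.Pt c)) (hs : ∀ x, x.ord g ≠ 0 → x ∈ s) :
    ∑ x ∈ s, x.ord g = 0 := by
  classical
  obtain ⟨B⟩ := nonempty_bridge c hdim
  letI := B.alg
  rw [← sum_ord B.isFF g (s.map B.e.toEmbedding) fun P hP => Finset.mem_map.2
    ⟨B.e.symm P, hs _ (by rwa [B.ord_eq, Equiv.apply_symm_apply]), B.e.apply_symm_apply P⟩, Finset.sum_map]
  exact Finset.sum_congr rfl fun x _ => B.ord_eq x g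

/-- A function without poles is constant. -/
theorem exists_pole {g : X.functionField} (hg : ∀ a, g ≠ LocSym.constFun c a) : ∃ x : LocSym.Pt c, x.ord g < 0 := by
  obtain ⟨B⟩ := nonempty_bridge c hdim
  letI := B.alg
  have ht : Transcendental k g := fun halg => by
    obtain ⟨a, ha⟩ := minpoly.mem_range_of_degree_eq_one k g
      (IsAlgClosed.degree_eq_one_of_irreducible k (minpoly.irreducible halg.isIntegral))
    exact hg a (ha.symm.trans (congrArg (fun φ => φ a) B.alg_eq))
  obtain ⟨P, hP⟩ := B.isFF.exists_zero_place (FunFld1.IsFF.transcendental_inv ht)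
  have hg0 : g ≠ 0 := fun h => ht (h ▸ isAlgebraic_zero)
  refine ⟨B.e.symm P, ?_⟩
  have := (FunFld1.val_lt_one_iff P (inv_ne_zero hg0)).1 hP
  rw [FunFld1.ord_inv] at this
  rw [B.ord_eq, Equiv.apply_symm_apply]
  omega

/-- Congruence in terms of valuations. -/
theorem cong1At_iff (B : Bridge c) (m : LocSym.Pt c →₀ ℕ) (x : LocSym.Pt c) (g : X.functionField) :
    LocSym.Cong1At m x g ↔ (letI := B.alg; (B.e x).1 (1 - g) ≤ exp (-(m x : ℤ))) := by
  letI := B.alg
  by_cases hg : g = 1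
  · exact iff_of_true (Or.inl hg) (by rw [hg, sub_self, map_zero]; exact zero_le)
  have h1 : (1 : X.functionField) - g ≠ 0 := sub_ne_zero.2 (Ne.symm hg)
  rw [FunFld1.val_le_exp_iff _ h1, LocSym.Cong1At, B.ord_eq, or_iff_right hg]
  omega

theorem hasValueAt_iff (B : Bridge c) (x : LocSym.Pt c) (g : X.functionField) (a : k) :
    LocSym.HasValueAt x g a ↔ (letI := B.alg; (B.e x).1 (g - algebraMap k X.functionField a) < 1) := by
  letI := B.alg
  have hc : algebraMap k X.functionField a = LocSym.constFun c a := congrArg (fun φ => φ a) B.alg_eq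
  simp only [hc]
  by_cases h : g = LocSym.constFun c a
  · exact iff_of_true (Or.inl h) (by rw [← h, sub_self, map_zero]; exact zero_lt_one)
  rw [LocSym.HasValueAt, B.ord_eq, or_iff_right h, FunFld1.val_lt_one_iff _ (sub_ne_zero.2 h)]

/-- Approximation: congruent to `g` at `x`, to `1` at the other points of `s`. -/
theorem exists_approx (s : Finset (LocSym.Pt c)) (x : LocSym.Pt c) (hx : x ∈ s) {g : X.functionField} (hg : g ≠ 0)
    (n : LocSym.Pt c →₀ ℕ) :
    ∃ h : X.functionField, h ≠ 0 ∧ (h / g = 1 ∨ (n x : ℤ) ≤ x.ord (1 - h / g)) ∧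
      ∀ y ∈ s, y ≠ x → LocSym.Cong1At n y h := by
  classical
  obtain ⟨B⟩ := nonempty_bridge c hdim
  letI := B.alg
  obtain ⟨h, hh⟩ := FunFld1.exists_val_sub_le (s.map B.e.toEmbedding)
    (fun P => if P = B.e x then g else 1)
    (fun P => -((max (n (B.e.symm P)) 1 : ℕ) : ℤ) - (if P = B.e x then P.ord g else 0))
  have hhx := hh (B.e x) (Finset.mem_map_of_mem _ hx)
  simp only [if_true, Equiv.symm_apply_apply] at hhx
  have hquot : (B.e x).1 (1 - h / g) ≤ exp (-((max (n x) 1 : ℕ) : ℤ)) := by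
    rw [show (1 : X.functionField) - h / g = -((h - g) * g⁻¹) by field_simp; ring, Valuation.map_neg, map_mul,
      map_inv₀, FunFld1.val_eq_exp_neg_ord _ hg, ← exp_neg, neg_neg]
    exact (mul_le_mul' hhx le_rfl).trans_eq (by rw [← exp_add, sub_add_cancel])
  have hne : h ≠ 0 := fun h0 => by
    rw [h0, zero_div, sub_zero, map_one, FunFld1.one_le_exp] at hquot
    omega
  refine ⟨h, hne, ?_, fun y hy hyx => ?_⟩
  · by_cases hq : h / g = 1
    · exact Or.inl hq
    right
    rw [FunFld1.val_le_exp_iff _ (sub_ne_zero.2 (Ne.symm hq))] at hquot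
    rw [B.ord_eq]
    omega
  · have hy' := hh (B.e y) (Finset.mem_map_of_mem _ hy)
    have hne' : B.e y ≠ B.e x := fun e => hyx (B.e.injective e)
    rw [if_neg hne', if_neg hne', Equiv.symm_apply_apply, sub_zero] at hy'
    rw [cong1At_iff hdim B, Valuation.map_sub_swap]
    exact hy'.trans (exp_le_exp.2 (by omega))

theorem cong_ord_zero {m : LocSym.Pt c →₀ ℕ} {x : LocSym.Pt c} (hm : m x ≠ 0) {g : X.functionField}
    (h : LocSym.Cong1At m x g) : g ≠ 0 ∧ x.ord g = 0 := by
  obtain ⟨B⟩ := nonempty_bridge c hdim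
  letI := B.alg
  rw [cong1At_iff hdim B] at h
  have h1 : (B.e x).1 g = 1 := by
    have hlt : (B.e x).1 (1 - g) < 1 := h.trans_lt (FunFld1.exp_lt_one.2 (by omega))
    have := Valuation.map_sub_eq_of_lt_left (B.e x).1 (x := (1 : X.functionField)) (y := 1 - g) (by rwa [map_one])
    rwa [sub_sub_cancel, map_one] at this
  have hg : g ≠ 0 := fun h0 => by simp [h0] at h1
  exact ⟨hg, by rw [B.ord_eq]; exact (FunFld1.val_eq_one_iff _ hg).1 h1⟩

theorem cong_mul {m : LocSym.Pt c →₀ ℕ} {x : LocSym.Pt c} (hm : m x ≠ 0) {g h : X.functionField}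
    (hg : LocSym.Cong1At m x g) (hh : LocSym.Cong1At m x h) : LocSym.Cong1At m x (g * h) := by
  obtain ⟨B⟩ := nonempty_bridge c hdim
  letI := B.alg
  obtain ⟨hg0, hgo⟩ := cong_ord_zero hdim hm hg
  rw [B.ord_eq] at hgo
  rw [cong1At_iff hdim B] at hg hh ⊢
  rw [show 1 - g * h = (1 - g) + g * (1 - h) by ring]
  refine (Valuation.map_add _ _ _).trans (max_le hg ?_)
  rw [map_mul, (FunFld1.val_eq_one_iff _ hg0).2 hgo, one_mul]
  exact hh

theorem cong_inv {m : LocSym.Pt c →₀ ℕ} {x : LocSym.Pt c} (hm : m x ≠ 0) {g : X.functionField}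
    (hg : LocSym.Cong1At m x g) : LocSym.Cong1At m x g⁻¹ := by
  obtain ⟨B⟩ := nonempty_bridge c hdim
  letI := B.alg
  obtain ⟨hg0, hgo⟩ := cong_ord_zero hdim hm hg
  rw [B.ord_eq] at hgo
  rw [cong1At_iff hdim B] at hg ⊢
  rw [show 1 - g⁻¹ = -((1 - g) * g⁻¹) by field_simp; ring, Valuation.map_neg, map_mul, map_inv₀,
    (FunFld1.val_eq_one_iff _ hg0).2 hgo, inv_one, mul_one]
  exact hg

theorem hasValueAt_unique {x : LocSym.Pt c} {g : X.functionField} {a b : k} (ha : LocSym.HasValueAt x g a)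
    (hb : LocSym.HasValueAt x g b) : a = b := by
  obtain ⟨B⟩ := nonempty_bridge c hdim
  letI := B.alg
  exact const_unique ((hasValueAt_iff hdim B x g a).1 ha) ((hasValueAt_iff hdim B x g b).1 hb)

end Groth.MilnorKLambda.Recip
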