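import Groth.Agent.MilnorKLambda.Recip.Calculus

/-!
# Local symbols: existence, uniqueness, criterion for a modulus
-/

set_option autoImplicit false
universe u v

open CategoryTheory AlgebraicGeometry WithZero

namespace Groth.MilnorKLambda.Recip

variable {k : Type u} [Field k] [IsAlgClosed k] {X : Scheme.{u}} [IsIntegral X] {c : X ⟶ Spec (CommRingCat.of k)}
  [IsProper c] [Smooth c] (hdim : topologicalKrullDim X = 1)
  {G : Type v} [CommGroup G] (f : LocSym.Pt c → G) {m n : LocSym.Pt c →₀ ℕ}
include hdim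

open Classical in
theorem finite_evalDiv (m : LocSym.Pt c →₀ ℕ) (g : X.functionField) :
    (Function.mulSupport fun x : LocSym.Pt c => if x ∈ m.support then 1 else f x ^ x.ord g).Finite :=
  (finite_ord_ne hdim g).subset fun x hx h0 => hx (by simp [h0])

theorem evalDiv_mul (m : LocSym.Pt c →₀ ℕ) {g h : X.functionField} (hg : g ≠ 0) (hh : h ≠ 0) :
    LocSym.evalDiv m f (g * h) = LocSym.evalDiv m f g * LocSym.evalDiv m f h := by
  classical
  rw [LocSym.evalDiv, LocSym.evalDiv, LocSym.evalDiv,
    ← finprod_mul_distrib (finite_evalDiv hdim f m g) (finite_evalDiv hdim f m h)]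
  refine finprod_congr fun x => ?_
  split_ifs
  · rw [one_mul]
  · rw [ord_mul hdim hg hh, zpow_add]

theorem evalDiv_inv (m : LocSym.Pt c →₀ ℕ) (g : X.functionField) :
    LocSym.evalDiv m f g⁻¹ = (LocSym.evalDiv m f g)⁻¹ := by
  classical
  rw [LocSym.evalDiv, LocSym.evalDiv, ← finprod_inv_distrib]
  refine finprod_congr fun x => ?_
  split_ifs
  · rw [inv_one]
  · rw [ord_inv hdim, zpow_neg]

theorem evalDiv_div (m : LocSym.Pt c →₀ ℕ) {g h : X.functionField} (hg : g ≠ 0) (hh : h ≠ 0) :
    LocSym.evalDiv m f (g / h) = LocSym.evalDiv m f g / LocSym.evalDiv m f h := by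
  rw [div_eq_mul_inv, evalDiv_mul hdim f m hg (inv_ne_zero hh), evalDiv_inv hdim, div_eq_mul_inv]

theorem evalDiv_const (m : LocSym.Pt c →₀ ℕ) (a : k) : LocSym.evalDiv m f (LocSym.constFun c a) = 1 := by
  classical
  exact (finprod_congr fun x => by rw [ord_const hdim, zpow_zero, ite_self]).trans finprod_one

theorem evalDiv_one (m : LocSym.Pt c →₀ ℕ) : LocSym.evalDiv m f (1 : X.functionField) = 1 := by
  rw [← map_one (LocSym.constFun c), evalDiv_const hdim]

theorem evalDiv_prod (m : LocSym.Pt c →₀ ℕ) {ι : Type*} (s : Finset ι) (h : ι → X.functionField)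
    (hh : ∀ i, h i ≠ 0) :
    LocSym.evalDiv m f (∏ i ∈ s, h i) = ∏ i ∈ s, LocSym.evalDiv m f (h i) := by
  classical
  induction s using Finset.induction with
  | empty => rw [Finset.prod_empty, Finset.prod_empty, evalDiv_one hdim]
  | insert i s hi ih =>
    rw [Finset.prod_insert hi, Finset.prod_insert hi,
      evalDiv_mul hdim f m (hh i) (Finset.prod_ne_zero_iff.2 fun j _ => hh j), ih]

omit hdim f in
/-- `h` agrees with `g` at `x` and with `1` at the other points of the support of `m`. -/
def IsApprox (m : LocSym.Pt c →₀ ℕ) (x : LocSym.Pt c) (g h : X.functionField) : Prop :=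
  h ≠ 0 ∧ LocSym.Cong1At m x (h / g) ∧ ∀ y ∈ m.support, y ≠ x → LocSym.Cong1At m y h

theorem exists_isApprox {x : LocSym.Pt c} (hx : x ∈ m.support) {g : X.functionField} (hg : g ≠ 0) :
    ∃ h, IsApprox m x g h :=
  exists_approx hdim m.support x hx hg m

theorem IsApprox.evalDiv_eq (hmod : LocSym.IsModulus f m) {x : LocSym.Pt c} (hx : x ∈ m.support)
    {g h h' : X.functionField} (hg : g ≠ 0) (h1 : IsApprox m x g h) (h2 : IsApprox m x g h') :
    LocSym.evalDiv m f h = LocSym.evalDiv m f h' := by
  have hc : LocSym.Cong1 m (h / h') := fun y hy => by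
    have hm : m y ≠ 0 := Finsupp.mem_support_iff.1 hy
    rw [div_eq_mul_inv]
    by_cases hyx : y = x
    · subst hyx
      rw [show h * h'⁻¹ = (h / g) * (h' / g)⁻¹ by field_simp]
      exact cong_mul hdim hm h1.2.1 (cong_inv hdim hm h2.2.1)
    · exact cong_mul hdim hm (h1.2.2 y hy hyx) (cong_inv hdim hm (h2.2.2 y hy hyx))
  have h3 := hmod _ (div_ne_zero h1.1 h2.1) hc
  rwa [evalDiv_div hdim f m h1.1 h2.1, div_eq_one] at h3

theorem exists_isLocalSymbol (hmod : LocSym.IsModulus f m) :
    ∃ σ : LocSym.Pt c → (X.functionField)ˣ →* G, LocSym.IsLocalSymbol f m σ := by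
  classical
  have key : ∀ (x : LocSym.Pt c) (g : (X.functionField)ˣ), ∃ v : G,
      (x ∈ m.support → ∀ h, IsApprox m x (g : X.functionField) h → v = (LocSym.evalDiv m f h)⁻¹) ∧
        (x ∉ m.support → v = f x ^ x.ord (g : X.functionField)) := fun x g => by
    by_cases hx : x ∈ m.support
    · obtain ⟨h, hh⟩ := exists_isApprox hdim hx g.ne_zero
      exact ⟨(LocSym.evalDiv m f h)⁻¹,
        fun _ h' hh' => by rw [hh.evalDiv_eq hdim f hmod hx g.ne_zero hh'], fun h0 => absurd hx h0⟩
    · exact ⟨f x ^ x.ord (g : X.functionField), fun h0 => absurd h0 hx, fun _ => rfl⟩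
  choose v hv using key
  have hmul : ∀ x g g', v x (g * g') = v x g * v x g' := fun x g g' => by
    by_cases hx : x ∈ m.support
    · obtain ⟨h, hh⟩ := exists_isApprox hdim hx g.ne_zero
      obtain ⟨h', hh'⟩ := exists_isApprox hdim hx g'.ne_zero
      have hm : m x ≠ 0 := Finsupp.mem_support_iff.1 hx
      have hhh : IsApprox m x ((g * g' : (X.functionField)ˣ) : X.functionField) (h * h') := by
        refine ⟨mul_ne_zero hh.1 hh'.1, ?_, fun y hy hyx =>
          cong_mul hdim (Finsupp.mem_support_iff.1 hy) (hh.2.2 y hy hyx) (hh'.2.2 y hy hyx)⟩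
        rw [Units.val_mul, ← div_mul_div_comm]
        exact cong_mul hdim hm hh.2.1 hh'.2.1
      rw [(hv x _).1 hx _ hhh, (hv x g).1 hx _ hh, (hv x g').1 hx _ hh', evalDiv_mul hdim f m hh.1 hh'.1,
        mul_inv]
    · rw [(hv x _).2 hx, (hv x g).2 hx, (hv x g').2 hx, Units.val_mul, ord_mul hdim g.ne_zero g'.ne_zero,
        zpow_add]
  refine ⟨fun x => MonoidHom.mk' (v x) (hmul x), ⟨fun x hx g hg => ?_, fun x hx g => (hv x g).2 hx,
    fun g => ?_, fun g => ?_⟩⟩
  · have h1 : IsApprox m x (g : X.functionField) 1 :=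
      ⟨one_ne_zero, by rw [one_div]; exact cong_inv hdim (Finsupp.mem_support_iff.1 hx) hg, fun y _ _ => Or.inl rfl⟩
    rw [MonoidHom.mk'_apply, (hv x g).1 hx _ h1, evalDiv_one hdim, inv_one]
  · refine (m.support.finite_toSet.union (finite_ord_ne hdim (g : X.functionField))).subset fun x hx => ?_
    by_contra h
    simp only [Set.mem_union, Finset.mem_coe, Set.mem_ofPred_eq, not_or, not_not] at h
    exact hx (show v x g = 1 by rw [(hv x g).2 h.1, h.2, zpow_zero])
  · have hex : ∀ x : LocSym.Pt c, ∃ h, h ≠ 0 ∧ (x ∈ m.support → IsApprox m x (g : X.functionField) h) := fun x => by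
      by_cases hx : x ∈ m.support
      · obtain ⟨h, hh⟩ := exists_isApprox hdim hx g.ne_zero
        exact ⟨h, hh.1, fun _ => hh⟩
      · exact ⟨1, one_ne_zero, fun h => absurd h hx⟩
    choose H hH0 hH using hex
    have hc : LocSym.Cong1 m ((g : X.functionField) / ∏ i ∈ m.support, H i) := fun y hy => by
      have hm : m y ≠ 0 := Finsupp.mem_support_iff.1 hy
      rw [show (g : X.functionField) / ∏ i ∈ m.support, H i =
        ((H y / g) * ∏ i ∈ m.support.erase y, H i)⁻¹ by
          rw [← Finset.mul_prod_erase _ _ hy]; field_simp]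
      refine cong_inv hdim hm (cong_mul hdim hm (hH y hy).2.1 ?_)
      refine Finset.prod_induction _ (LocSym.Cong1At m y) (fun a b => cong_mul hdim hm) (Or.inl rfl) fun i hi => ?_
      rw [Finset.mem_erase] at hi
      exact (hH i hi.2).2.2 y hy (Ne.symm hi.1)
    have hP : ∏ i ∈ m.support, H i ≠ 0 := Finset.prod_ne_zero_iff.2 fun i _ => hH0 i
    have h3 := hmod _ (div_ne_zero g.ne_zero hP) hc
    rw [evalDiv_div hdim f m g.ne_zero hP, div_eq_one, evalDiv_prod hdim f m _ _ hH0] at h3
    have hfn : ∀ x, v x g = (if x ∈ m.support then (LocSym.evalDiv m f (H x))⁻¹ else 1) *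
        (if x ∈ m.support then 1 else f x ^ x.ord (g : X.functionField)) := fun x => by
      split_ifs with hx
      · rw [(hv x g).1 hx _ (hH x hx), mul_one]
      · rw [(hv x g).2 hx, one_mul]
    simp only [MonoidHom.mk'_apply]
    rw [finprod_congr hfn, finprod_mul_distrib (m.support.finite_toSet.subset fun x hx => by
      by_contra h; exact hx (if_neg h)) (finite_evalDiv hdim f m _),
      finprod_eq_prod_of_mulSupport_subset (s := m.support) _ (fun x hx => by
        by_contra h; exact hx (if_neg h))]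
    have hgoal : (∏ᶠ x : LocSym.Pt c, if x ∈ m.support then (1 : G) else f x ^ x.ord (g : X.functionField))
        = LocSym.evalDiv m f (g : X.functionField) := rfl
    rw [hgoal, h3, Finset.prod_congr rfl (fun x hx => if_pos hx), Finset.prod_inv_distrib, inv_mul_cancel]

theorem isModulus_of_symbol {σ : LocSym.Pt c → (X.functionField)ˣ →* G} (hσ : LocSym.IsLocalSymbol f m σ) :
    LocSym.IsModulus f m := by
  intro g hg hc
  refine (finprod_congr fun x => ?_).trans (hσ.finprod_eq_one (Units.mk0 g hg))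
  split_ifs with hx
  · exact (hσ.eq_one_of_cong x hx (Units.mk0 g hg) (hc x hx)).symm
  · exact (hσ.eq_pow_of_notMem x hx (Units.mk0 g hg)).symm

theorem localSymbol_unique {σ τ : LocSym.Pt c → (X.functionField)ˣ →* G}
    (hσ : LocSym.IsLocalSymbol f m σ) (hτ : LocSym.IsLocalSymbol f n τ) : σ = τ := by
  classical
  funext x
  refine MonoidHom.ext fun g => ?_
  have hsupp : ∀ y, y ∉ (m + n).support → y ∉ m.support ∧ y ∉ n.support := fun y hy => by
    simp only [Finsupp.mem_support_iff, Finsupp.add_apply, ne_eq, not_not] at hy ⊢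
    omega
  by_cases hx : x ∈ (m + n).support
  · obtain ⟨h, hh0, hhx, hhy⟩ := exists_isApprox hdim hx g.ne_zero
    have one_of : ∀ (l : LocSym.Pt c →₀ ℕ) (ρ : LocSym.Pt c → (X.functionField)ˣ →* G),
        LocSym.IsLocalSymbol f l ρ → (∀ y, l y ≤ (m + n) y) → ∀ y ∈ (m + n).support,
          ∀ u : (X.functionField)ˣ, LocSym.Cong1At (m + n) y (u : X.functionField) → ρ y u = 1 := by
      intro l ρ hρ hle y hy u hu
      by_cases hyl : y ∈ l.support
      · exact hρ.eq_one_of_cong y hyl u (hu.imp_right fun h => le_trans (Nat.cast_le.2 (hle y)) h)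
      · rw [hρ.eq_pow_of_notMem y hyl, (cong_ord_zero hdim (Finsupp.mem_support_iff.1 hy) hu).2, zpow_zero]
    have hm1 : ∀ y, m y ≤ (m + n) y := fun y => by rw [Finsupp.add_apply]; omega
    have hn1 : ∀ y, n y ≤ (m + n) y := fun y => by rw [Finsupp.add_apply]; omega
    set u := Units.mk0 h hh0
    have hug : LocSym.Cong1At (m + n) x ((u / g : (X.functionField)ˣ) : X.functionField) := by
      rw [Units.val_div_eq_div_val]; exact hhx
    have e1 := one_of m σ hσ hm1 x hx _ hug
    have e2 := one_of n τ hτ hn1 x hx _ hug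
    rw [map_div, div_eq_one] at e1 e2
    rw [← e1, ← e2]
    have hall : ∀ y, y ≠ x → σ y u = τ y u := fun y hyx => by
      by_cases hy : y ∈ (m + n).support
      · rw [one_of m σ hσ hm1 y hy u (hhy y hy hyx), one_of n τ hτ hn1 y hy u (hhy y hy hyx)]
      · rw [hσ.eq_pow_of_notMem y (hsupp y hy).1, hτ.eq_pow_of_notMem y (hsupp y hy).2]
    set T := insert x ((hσ.mulSupport_finite u).toFinset ∪ (hτ.mulSupport_finite u).toFinset) with hT
    have p1 : ∏ y ∈ T, σ y u = 1 := by
      rw [← finprod_eq_prod_of_mulSupport_subset, hσ.finprod_eq_one u]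
      intro y hy
      simp only [hT, Finset.coe_insert, Finset.coe_union, Set.Finite.coe_toFinset]
      exact Or.inr (Or.inl hy)
    have p2 : ∏ y ∈ T, τ y u = 1 := by
      rw [← finprod_eq_prod_of_mulSupport_subset, hτ.finprod_eq_one u]
      intro y hy
      simp only [hT, Finset.coe_insert, Finset.coe_union, Set.Finite.coe_toFinset]
      exact Or.inr (Or.inr hy)
    have hxT : x ∈ T := Finset.mem_insert_self _ _
    rw [← Finset.mul_prod_erase _ _ hxT] at p1 p2
    rw [Finset.prod_congr rfl fun y hy => hall y (Finset.ne_of_mem_erase hy)] at p1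
    exact mul_right_cancel (p1.trans p2.symm)
  · rw [hσ.eq_pow_of_notMem x (hsupp x hx).1, hτ.eq_pow_of_notMem x (hsupp x hx).2]

theorem evalDiv_eq_zeros_div_poles (m : LocSym.Pt c →₀ ℕ) (g : X.functionField) :
    LocSym.evalDiv m f g = LocSym.evalZeros m f g / LocSym.evalPoles m f g := by
  classical
  rw [LocSym.evalDiv, LocSym.evalZeros, LocSym.evalPoles, ← finprod_div_distrib]
  · refine finprod_congr fun x => ?_
    split_ifs
    · rw [div_one]
    · rw [← zpow_natCast, ← zpow_natCast, div_eq_mul_inv, ← zpow_sub]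
      congr 1
      omega
  · exact (finite_ord_ne hdim g).subset fun x hx h0 => hx (by simp [h0])
  · exact (finite_ord_ne hdim g).subset fun x hx h0 => hx (by simp [h0])

theorem pole_sub_const (g : X.functionField) (a : k) (x : LocSym.Pt c) :
    max (-x.ord (g - LocSym.constFun c a)) 0 = max (-x.ord g) 0 := by
  obtain ⟨B⟩ := nonempty_bridge c hdim
  letI := B.alg
  rw [show LocSym.constFun c a = algebraMap k X.functionField a from (congrArg (fun φ => φ a) B.alg_eq).symm,
    B.ord_eq, B.ord_eq]
  have hle := FunFld1.val_algebraMap_le (B.e x) (c := a)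
  by_cases hg : (B.e x).ord g < 0
  · have h1 := (FunFld1.one_lt_val_iff _ g).2 hg
    have h2 : (B.e x).1 (g - algebraMap k X.functionField a) = (B.e x).1 g :=
      Valuation.map_sub_eq_of_lt_left _ (hle.trans_lt h1)
    rw [show (B.e x).ord (g - algebraMap k X.functionField a) = (B.e x).ord g by
      rw [FunFld.Place.ord, FunFld.Place.ord, h2]]
  · have h1 := (FunFld1.val_le_one_iff _ g).2 (not_lt.1 hg)
    have h2 := (FunFld1.val_le_one_iff _ _).1 ((Valuation.map_sub _ g (algebraMap k X.functionField a)).trans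
      (max_le h1 hle))
    omega

theorem evalPoles_sub_const (m : LocSym.Pt c →₀ ℕ) (g : X.functionField) (a : k) :
    LocSym.evalPoles m f (g - LocSym.constFun c a) = LocSym.evalPoles m f g := by
  classical
  exact finprod_congr fun x => by rw [pole_sub_const hdim]

theorem isModulus_iff : LocSym.IsModulus f m ↔
    ∀ g : X.functionField, g ≠ 0 → (∃ x : LocSym.Pt c, x.ord g < 0) →
      (∀ x ∈ m.support, (m x : ℤ) ≤ x.ord g) →
        ∀ a : k, a ≠ 0 → LocSym.evalZeros m f (g - LocSym.constFun c a) = LocSym.evalPoles m f g := by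
  constructor
  · intro hmod g hg ⟨p, hp⟩ hgS a ha
    have ha' : LocSym.constFun c a ≠ 0 := (_root_.map_ne_zero _).2 ha
    have hne : g - LocSym.constFun c a ≠ 0 := fun h0 => by
      rw [sub_eq_zero] at h0
      rw [h0, ord_const hdim] at hp
      exact lt_irrefl _ hp
    set h := -(g - LocSym.constFun c a) * (LocSym.constFun c a)⁻¹ with hh
    have hh0 : h ≠ 0 := mul_ne_zero (neg_ne_zero.2 hne) (inv_ne_zero ha')
    have hc : LocSym.Cong1 m h := fun x hx => Or.inr (by
      rw [hh, show (1 : X.functionField) - -(g - LocSym.constFun c a) * (LocSym.constFun c a)⁻¹ =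
        g * (LocSym.constFun c a)⁻¹ by field_simp; ring, ord_mul hdim hg (inv_ne_zero ha'), ord_inv hdim,
        ord_const hdim, neg_zero, add_zero]
      exact hgS x hx)
    have h3 := hmod h hh0 hc
    rw [hh, evalDiv_mul hdim f m (neg_ne_zero.2 hne) (inv_ne_zero ha'), evalDiv_inv hdim, evalDiv_const hdim,
      inv_one, mul_one] at h3
    have h4 : LocSym.evalDiv m f (-(g - LocSym.constFun c a)) = LocSym.evalDiv m f (g - LocSym.constFun c a) := by
      classical
      exact finprod_congr fun x => by rw [ord_neg hdim]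
    rw [h4, evalDiv_eq_zeros_div_poles hdim, div_eq_one, evalPoles_sub_const hdim] at h3
    exact h3
  · intro H h hh hc
    by_cases hconst : ∃ a, h = LocSym.constFun c a
    · obtain ⟨a, rfl⟩ := hconst
      exact evalDiv_const hdim f m a
    push Not at hconst
    set g := 1 - h with hg
    have hgc : ∀ a, g ≠ LocSym.constFun c a := fun a h0 => hconst (1 - a) (by
      rw [map_sub, map_one, ← h0, hg, sub_sub_cancel])
    have hg0 : g ≠ 0 := by simpa using hgc 0
    have hgS : ∀ x ∈ m.support, (m x : ℤ) ≤ x.ord g := fun x hx =>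
      (hc x hx).resolve_left (fun h1 => hconst 1 (h1.trans (map_one _).symm))
    have h3 := H g hg0 (exists_pole hdim hgc) hgS 1 one_ne_zero
    rw [← evalPoles_sub_const hdim f m g 1] at h3
    have h4 : LocSym.evalDiv m f h = LocSym.evalDiv m f (g - LocSym.constFun c 1) := by
      classical
      refine finprod_congr fun x => ?_
      rw [map_one, show g - 1 = -h by rw [hg]; ring, ord_neg hdim]
    rw [h4, evalDiv_eq_zeros_div_poles hdim, h3, div_self']

end Groth.MilnorKLambda.Recip
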