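import Groth.Agent.MilnorKLambda.Recip.Symbol
import Groth.Agent.MilnorKLambda.Tame1.NormCompat
import Groth.Agent.FunFld1.IntClosure
import Mathlib.RingTheory.DedekindDomain.PID

/-!
# Symbols and norms in a finite extension of function fields
-/

set_option autoImplicit false
universe u

open WithZero FunFld IsLocalRing Groth.FunFld1

namespace Groth.MilnorKLambda.Recip

attribute [local instance] Amb.isLocalHom_atPrime

variable {k K K' : Type u} [Field k] [IsAlgClosed k] [Field K] [Field K'] [Algebra k K] [Algebra K K'] [Algebra k K']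
  [IsScalarTower k K K'] [FiniteDimensional K K']

theorem deg_eq_one {F : Type u} [Field F] [Algebra k F] (hF : IsFF k F) (P : Place k F) : P.deg = 1 :=
  Groth.FunFld1.deg_eq_one_of_isAlgClosed hF P

omit [IsAlgClosed k] in
theorem exists_scale (hF : IsFF k K) (P : Place k K) {x : K'} (hx : x ≠ 0) :
    ∃ c : K, c ≠ 0 ∧ P.1 c ≤ 1 ∧ ∀ Q : Place k K', IsOver Q P → Q.1 (algebraMap K K' c * x) ≤ 1 := by
  obtain ⟨t, ht0, ht⟩ := exists_uniformizer P
  refine ⟨t ^ ((hF.above P : Finset (Place k K')).sup fun Q => (-Q.ord x).toNat),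
    pow_ne_zero _ ht0, by rw [map_pow]; exact pow_le_one₀ zero_le (by rw [ht, FunFld1.exp_le_one]; omega),
    fun Q hQ => ?_⟩
  set N := (hF.above P : Finset (Place k K')).sup fun Q => (-Q.ord x).toNat
  have hN : (-Q.ord x).toNat ≤ N :=
    Finset.le_sup (f := fun Q : Place k K' => (-Q.ord x).toNat) (hF.mem_above.mpr hQ)
  have ho := isOverWith_ramIdx hQ
  have he := overWith_pos ho
  rw [map_mul, map_pow, map_pow, ho t, ht, val_eq_exp_neg_ord Q hx, ← exp_nsmul, ← exp_nsmul,
    ← exp_add, FunFld1.exp_le_one]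
  simp only [nsmul_eq_mul]
  have : (N : ℤ) ≤ (N : ℤ) * (ramIdx Q P : ℤ) :=
    le_mul_of_one_le_right (by omega) (by exact_mod_cast he)
  have h1 : -Q.ord x ≤ N := by omega
  linarith

open Classical in
/-- The norm formula, for a semilocal ring inside the field. -/
theorem symb_norm_core (hF : IsFF k K) (P : Place k K) {T : Type u} [CommRing T] [IsDomain T] [IsDedekindDomain T]
    [Algebra T K'] [IsFractionRing T K'] [Algebra P.O T] [Module.Finite P.O T] [Module.Free P.O T] [Algebra k T]
    [IsScalarTower k P.O T] (hcomp' : ∀ a : P.O, algebraMap T K' (algebraMap P.O T a) = algebraMap K K' (a : K))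
    (hTint : ∀ (x : T) (Q : Place k K'), IsOver Q P → Q.1 (algebraMap T K' x) ≤ 1)
    {f : K'} {fT : T} (hfT : algebraMap T K' fT = f) (hf : f ≠ 0)
    (hnorm : ((Algebra.norm P.O fT : P.O) : K) = Algebra.norm K f)
    {g : K} (hg : g ≠ 0) (hgi : P.1 g ≤ 1) :
    ∏ Q ∈ hF.above P, symb Q f (algebraMap K K' g) = symb P (Algebra.norm K f) g := by
  have hF' : IsFF k K' := hF.ext
  have hTinj : Function.Injective (algebraMap T K') := IsFractionRing.injective T K'
  have hAT : Function.Injective (algebraMap P.O T) := fun x y h => Subtype.ext ((algebraMap K K').injective (by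
    rw [← hcomp', ← hcomp', h]))
  have hkT : ∀ c : k, algebraMap T K' (algebraMap k T c) = algebraMap k K' c := fun c => by
    rw [IsScalarTower.algebraMap_apply k P.O T, hcomp', IsScalarTower.algebraMap_apply k K K']
    rfl
  haveI : IsFractionRing P.O K := inferInstanceAs (IsFractionRing P.1.valuationSubring K)
  have hfinite := Amb.finite_maximalSpectrum (R := P.O) (S := T)
  haveI : IsPrincipalIdealRing T := IsPrincipalIdealRing.of_finite_maximals
    ((Set.finite_range fun M : MaximalSpectrum T => M.asIdeal).subset fun I hI => ⟨⟨I, hI⟩, rfl⟩)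
  haveI := Fintype.ofFinite (MaximalSpectrum T)
  -- the places of the maximal ideals
  have hj : ∀ (M : MaximalSpectrum T) (y : M.asIdeal.primeCompl), IsUnit (algebraMap T K' y) := fun M y => by
    refine IsUnit.mk0 _ fun h => y.2 ?_
    rw [show (y : T) = 0 from hTinj (h.trans (map_zero _).symm)]
    exact M.asIdeal.zero_mem
  let j := fun M : MaximalSpectrum T =>
    IsLocalization.lift (M := M.asIdeal.primeCompl) (S := Localization.AtPrime M.asIdeal) (hj M)
  have hjT : ∀ M x, j M (algebraMap T _ x) = algebraMap T K' x := fun M x => IsLocalization.lift_eq (hj M) x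
  have hLinj : ∀ M : MaximalSpectrum T, Function.Injective (algebraMap T (Localization.AtPrime M.asIdeal)) :=
    fun M => IsLocalization.injective (Localization.AtPrime M.asIdeal) M.asIdeal.primeCompl_le_nonZeroDivisors
  have hjinj : ∀ M, Function.Injective (j M) := fun M => by
    refine (IsLocalization.lift_injective_iff (hj M)).2 fun x y => ⟨fun h => ?_, fun h => ?_⟩
    · exact congrArg _ (hLinj M h)
    · exact congrArg _ (hTinj h)
  have hgen : ∀ M, ∀ z : K', ∃ a c, c ≠ 0 ∧ z = j M a / j M c := fun M z => by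
    obtain ⟨a, c, hc, rfl⟩ := IsFractionRing.div_surjective (A := T) z
    exact ⟨algebraMap _ _ a, algebraMap _ _ c, fun h => nonZeroDivisors.ne_zero hc (hLinj M (h.trans (map_zero _).symm)),
      by rw [hjT, hjT]⟩
  have hjk : ∀ (M : MaximalSpectrum T) (c : k),
      j M (algebraMap k (Localization.AtPrime M.asIdeal) c) = algebraMap k K' c := fun M c => by
    rw [IsScalarTower.algebraMap_apply k T (Localization.AtPrime M.asIdeal), hjT, hkT]
  have hdvr : ∀ M : MaximalSpectrum T, IsDiscreteValuationRing (Localization.AtPrime M.asIdeal) := fun M => by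
    refine IsLocalization.AtPrime.isDiscreteValuationRing_of_dedekind_domain T (P := M.asIdeal) (fun h => ?_)
      (Localization.AtPrime M.asIdeal)
    obtain ⟨t, ht⟩ := IsDiscreteValuationRing.exists_irreducible P.O
    have h1 : algebraMap P.O T t ∈ M.asIdeal :=
      (Ideal.mem_comap (f := algebraMap P.O T)).1
        (by rw [Amb.comap_eq_maximalIdeal M.asIdeal]; exact ht.not_isUnit)
    rw [h, Ideal.mem_bot] at h1
    exact ht.ne_zero (hAT (h1.trans (map_zero _).symm))
  have hQ : ∀ M : MaximalSpectrum T, ∃ Q : Place k K', IsOver Q P ∧ (∀ x, Q.1 (j M x) ≤ 1) ∧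
      (∀ x, Q.1 (j M x) < 1 ↔ x ∈ maximalIdeal (Localization.AtPrime M.asIdeal)) ∧
      ∀ z, Q.1 z ≤ 1 → ∃ x, j M x = z := by
    intro M
    haveI := hdvr M
    have hmem : ∀ z : K', z ∈ (j M).range ∨ z⁻¹ ∈ (j M).range := fun z => by
      obtain ⟨a, c, hc, rfl⟩ := hgen M z
      obtain ⟨d, hd | hd⟩ := ValuationRing.cond a c
      · refine Or.inr ⟨d, ?_⟩
        by_cases ha : a = 0
        · rw [ha, zero_mul] at hd; exact absurd hd.symm hc
        rw [inv_div, eq_div_iff (fun h => ha (hjinj M (h.trans (map_zero _).symm))), ← map_mul, mul_comm, hd]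
      · refine Or.inl ⟨d, ?_⟩
        rw [eq_div_iff (fun h => hc (hjinj M (h.trans (map_zero _).symm))), ← map_mul, mul_comm, hd]
    let V : ValuationSubring K' := { (j M).range with mem_or_inv_mem' := hmem }
    have hV : ∀ z, z ∈ V ↔ ∃ x, j M x = z := fun z => Iff.rfl
    have hVtop : V ≠ ⊤ := fun htop => by
      obtain ⟨t, ht⟩ := IsDiscreteValuationRing.exists_irreducible (Localization.AtPrime M.asIdeal)
      obtain ⟨s, hs⟩ := (hV (j M t)⁻¹).1 (htop ▸ ValuationSubring.mem_top _)
      refine ht.not_isUnit (IsUnit.of_mul_eq_one s (hjinj M ?_))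
      rw [map_mul, hs, map_one, mul_inv_cancel₀]
      exact fun h => ht.ne_zero (hjinj M (h.trans (map_zero _).symm))
    obtain ⟨Q, hQV⟩ := hF'.exists_place_O_eq V (fun c => (hV _).2 ⟨_, hjk M c⟩) hVtop
    have hle : ∀ z, Q.1 z ≤ 1 ↔ ∃ x, j M x = z := fun z => by
      rw [← hV, ← hQV]; rfl
    refine ⟨Q, ?_, fun x => (hle _).2 ⟨x, rfl⟩, fun x => ?_, fun z hz => (hle z).1 hz⟩
    · obtain ⟨P', hP'⟩ := hF.exists_isOver Q
      refine isOver_of_le_one hP' fun z hz => (hle _).2 ⟨algebraMap _ _ (algebraMap P.O T ⟨z, hz⟩), ?_⟩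
      rw [hjT, hcomp']
    · by_cases hx : x = 0
      · rw [hx, map_zero, map_zero]; exact iff_of_true zero_lt_one (Ideal.zero_mem _)
      have hjx : j M x ≠ 0 := fun h => hx (hjinj M (h.trans (map_zero _).symm))
      rw [← not_le, IsLocalRing.mem_maximalIdeal, mem_nonunits_iff, not_iff_not]
      constructor
      · intro h
        obtain ⟨y, hy⟩ := (hle (j M x)⁻¹).1 (by rw [map_inv₀]; exact inv_le_one_of_one_le₀ h)
        exact IsUnit.of_mul_eq_one y (hjinj M (by rw [map_mul, hy, map_one, mul_inv_cancel₀ hjx]))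
      · intro hu
        have h1 : Q.1 (j M ((hu.unit⁻¹ : (Localization.AtPrime M.asIdeal)ˣ) : Localization.AtPrime M.asIdeal)) *
            Q.1 (j M x) = 1 := by
          rw [← map_mul, ← map_mul, mul_comm, IsUnit.mul_val_inv, map_one, map_one]
        exact h1.symm.le.trans (mul_le_of_le_one_left' ((hle _).2 ⟨_, rfl⟩))
  choose pl hov hle hlt hrep using hQ
  have hplB : ∀ (M : MaximalSpectrum T) (y : T), (pl M).1 (algebraMap T K' y) < 1 ↔ y ∈ M.asIdeal := fun M y => by
    rw [← hjT M y, hlt, IsLocalization.AtPrime.to_map_mem_maximal_iff (Localization.AtPrime M.asIdeal) M.asIdeal y]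
  have hinj : Function.Injective pl := fun M M' h => MaximalSpectrum.ext (Ideal.ext fun y => by
    rw [← hplB, ← hplB, h])
  have himg : hF.above P = Finset.univ.image pl := by
    ext Q
    simp only [IsFF.mem_above, Finset.mem_image, Finset.mem_univ, true_and]
    refine ⟨fun hQ => ?_, fun ⟨M, hM⟩ => hM ▸ hov M⟩
    have hQB : ∀ y : T, Q.1 (algebraMap T K' y) ≤ 1 := fun y => hTint y Q hQ
    let I : Ideal T :=
      { carrier := {y | Q.1 (algebraMap T K' y) < 1}
        add_mem' := fun {a c} ha hc => by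
          change Q.1 (algebraMap T K' (a + c)) < 1
          rw [map_add]; exact (Q.1.map_add _ _).trans_lt (max_lt ha hc)
        zero_mem' := by simp
        smul_mem' := fun a y hy => by
          change Q.1 (algebraMap T K' (a • y)) < 1
          rw [smul_eq_mul, map_mul, map_mul]
          exact (mul_le_of_le_one_left' (hQB a)).trans_lt hy }
    have hI : I ≠ ⊤ := fun h => by
      have h1 : Q.1 (algebraMap T K' 1) < 1 := (h ▸ Submodule.mem_top : (1 : T) ∈ I)
      simp at h1
    obtain ⟨N, hN, hIN⟩ := Ideal.exists_le_maximal I hI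
    refine ⟨⟨N, hN⟩, Place.eq_of_forall_le_one _ _ fun z hz => ?_⟩
    obtain ⟨t, rfl⟩ := hrep _ z hz
    obtain ⟨y, s, rfl⟩ := IsLocalization.exists_mk'_eq N.primeCompl t
    have hs1 : Q.1 (algebraMap T K' (s : T)) = 1 :=
      le_antisymm (hQB _) (not_lt.1 fun h => s.2 (hIN h))
    have hzs : j ⟨N, hN⟩ (IsLocalization.mk' _ y s) * algebraMap T K' (s : T) = algebraMap T K' y := by
      rw [← hjT ⟨N, hN⟩ y, ← hjT ⟨N, hN⟩ (s : T), ← map_mul, IsLocalization.mk'_spec]
    have := hQB y
    rwa [← hzs, map_mul, hs1, mul_one] at this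
  -- comparison
  let a : P.O := ⟨g, hgi⟩
  have ha : a ≠ 0 := fun h => hg (congrArg Subtype.val h)
  have hfB : fT ≠ 0 := fun h => hf (by rw [← hfT, h, map_zero])
  have hPdeg := deg_eq_one hF P
  have hkA : Function.Bijective (algebraMap k (ResidueField P.O)) := by
    refine ⟨RingHom.injective _, fun y => ?_⟩
    obtain ⟨x, rfl⟩ := residue_surjective y
    obtain ⟨c, hc⟩ := exists_const_sub_lt_one hPdeg x.2
    refine ⟨c, ?_⟩
    change residue P.O (algebraMap k P.O c) = residue P.O x
    rw [eq_comm, ← sub_eq_zero, ← map_sub]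
    exact (FunFld1.residue_eq_zero_iff P _).2 hc
  haveI : Infinite (ResidueField P.O) := Infinite.of_injective _ hkA.1
  haveI : ∀ M : MaximalSpectrum T, IsLocalHom (algebraMap P.O (Localization.AtPrime M.asIdeal)) :=
    fun M => Amb.isLocalHom_atPrime M.asIdeal
  have hkres : ∀ (M : MaximalSpectrum T) (c : k), algebraMap k (ResidueField (Localization.AtPrime M.asIdeal)) c =
      residue _ (algebraMap k (Localization.AtPrime M.asIdeal) c) := fun M c => rfl
  have hcomp : ∀ (M : MaximalSpectrum T) (c : k),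
      algebraMap (ResidueField P.O) (ResidueField (Localization.AtPrime M.asIdeal)) (algebraMap k (ResidueField P.O) c) =
        algebraMap k (ResidueField (Localization.AtPrime M.asIdeal)) c := fun M c => by
    rw [show algebraMap k (ResidueField P.O) c = residue P.O (algebraMap k P.O c) from rfl, ResidueField.algebraMap_residue,
      hkres, IsScalarTower.algebraMap_apply P.O T (Localization.AtPrime M.asIdeal), ← IsScalarTower.algebraMap_apply k P.O T,
      ← IsScalarTower.algebraMap_apply]
  have hdeg : ∀ M : MaximalSpectrum T, Amb.deg P.O M.asIdeal = 1 := fun M => by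
    have hb : Function.Bijective (algebraMap (ResidueField P.O) (ResidueField (Localization.AtPrime M.asIdeal))) := by
      refine ⟨RingHom.injective _, fun y => ?_⟩
      obtain ⟨x, rfl⟩ := residue_surjective y
      obtain ⟨c, hc⟩ := exists_const_sub_lt_one (deg_eq_one hF' (pl M)) (hle M x)
      refine ⟨algebraMap k _ c, ?_⟩
      rw [hcomp, hkres, eq_comm, ← sub_eq_zero, ← map_sub, IsLocalRing.residue_eq_zero_iff, ← hlt, map_sub, hjk]
      exact hc
    rw [Amb.deg, ← (AlgEquiv.ofBijective (Algebra.ofId (ResidueField P.O)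
      (ResidueField (Localization.AtPrime M.asIdeal))) hb).toLinearEquiv.finrank_eq, Module.finrank_self]
  have h := Amb.tameSymbol_norm hAT hdeg hfB ha
  refine hkA.1 ?_
  have hNne : Algebra.norm P.O fT ≠ 0 := fun h0 => hfB (Algebra.norm_eq_zero_iff.1 h0)
  have hlt' : ∀ x : P.O, P.1 (P.O.subtype x) < 1 ↔ x ∈ maximalIdeal P.O := fun x => by
    rw [← IsLocalRing.residue_eq_zero_iff, FunFld1.residue_eq_zero_iff]; rfl
  have hgenP : ∀ z : K, ∃ x y : P.O, y ≠ 0 ∧ z = P.O.subtype x / P.O.subtype y := fun z => by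
    obtain ⟨x, y, hy, hxy⟩ := IsFractionRing.div_surjective (A := P.O) z
    exact ⟨x, y, nonZeroDivisors.ne_zero hy, hxy.symm⟩
  have hR : algebraMap k (ResidueField P.O) (symb P (Algebra.norm K f) g) =
      CycAlg.tameSymbol P.O (Algebra.norm P.O fT) a := by
    rw [← symb_eq_tame hPdeg P.O.subtype Subtype.val_injective (fun c => rfl) (fun x => x.2) hlt' hgenP hNne ha, ← hnorm]
    rfl
  rw [hR, ← h, map_prod, himg, Finset.prod_image fun M _ M' _ hMM => hinj hMM]
  refine Finset.prod_congr rfl fun M _ => ?_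
  haveI := hdvr M
  have hx0 : algebraMap T (Localization.AtPrime M.asIdeal) fT ≠ 0 := fun h0 =>
    hfB (hLinj M (h0.trans (map_zero _).symm))
  have hy0 : algebraMap P.O (Localization.AtPrime M.asIdeal) a ≠ 0 := fun h0 => by
    rw [IsScalarTower.algebraMap_apply P.O T] at h0
    exact ha (hAT ((hLinj M (h0.trans (map_zero _).symm)).trans (map_zero _).symm))
  have hja : j M (algebraMap P.O (Localization.AtPrime M.asIdeal) a) = algebraMap K K' g := by
    rw [IsScalarTower.algebraMap_apply P.O T, hjT, hcomp']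
  rw [← symb_eq_tame (deg_eq_one hF' (pl M)) (j M) (hjinj M) (hjk M) (hle M) (hlt M) (hgen M) hx0 hy0, hjT, hfT, hja,
    ← hcomp, Amb.nrm_algebraMap, hdeg, pow_one]

open Classical in
/-- The norm formula for integral elements. -/
theorem symb_norm_integral (hF : IsFF k K) (P : Place k K) {f : K'} (hf : f ≠ 0)
    (hfi : ∀ Q : Place k K', IsOver Q P → Q.1 f ≤ 1) {g : K} (hg : g ≠ 0) (hgi : P.1 g ≤ 1) :
    ∏ Q ∈ hF.above P, symb Q f (algebraMap K K' g) = symb P (Algebra.norm K f) g := by
  letI : Algebra P.O K' := ((algebraMap K K').comp P.O.subtype).toAlgebra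
  haveI : IsScalarTower P.O K K' := IsScalarTower.of_algebraMap_eq fun _ => rfl
  haveI : IsScalarTower k P.O K' := IsScalarTower.of_algebraMap_eq fun c => by
    rw [IsScalarTower.algebraMap_apply k K K']
    rfl
  obtain ⟨b, Bb, hBb, hrep⟩ := hF.exists_integralClosure_basis (K' := K') P
  have hmemB := fun y => hF.mem_integralClosure_iff (K' := K') P y
  haveI : Module.Finite P.O (integralClosure P.O K') := Module.Finite.of_basis Bb
  haveI : Module.Free P.O (integralClosure P.O K') := Module.Free.of_basis Bb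
  haveI : IsFractionRing P.O K := inferInstanceAs (IsFractionRing P.1.valuationSubring K)
  haveI : IsNoetherianRing (integralClosure P.O K') := IsNoetherianRing.of_finite P.O _
  haveI : Ring.DimensionLEOne (integralClosure P.O K') := Ring.DimensionLEOne.integralClosure P.O K'
  haveI : IsFractionRing (integralClosure P.O K') K' :=
    IsIntegralClosure.isFractionRing_of_finite_extension P.O K K' _
  haveI : IsDedekindDomain (integralClosure P.O K') := (isDedekindDomain_iff _ K').2
    ⟨inferInstance, inferInstance, inferInstance, fun {x} hx =>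
      (IsIntegralClosure.isIntegral_iff (A := integralClosure P.O K')).1
        (isIntegral_trans (R := P.O) (A := integralClosure P.O K') x hx)⟩
  refine symb_norm_core hF P (T := integralClosure P.O K') (fun a => rfl) (fun x Q hQ => (hmemB _).1 x.2 Q hQ)
    (fT := ⟨f, (hmemB f).2 hfi⟩) rfl hf ?_ hg hgi
  rw [Algebra.norm_eq_matrix_det Bb, Algebra.norm_eq_matrix_det b]
  refine (RingHom.map_det P.O.subtype _).trans (congrArg Matrix.det ?_)
  ext i l
  simp only [RingHom.mapMatrix_apply, Matrix.map_apply, Algebra.leftMulMatrix_eq_repr_mul]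
  rw [← hBb l]
  exact hrep ((⟨f, (hmemB f).2 hfi⟩ : integralClosure P.O K') * Bb l) i

open Classical in
/-- The norm formula. -/
theorem symb_norm (hF : IsFF k K) (P : Place k K) {f : K'} (hf : f ≠ 0) {g : K} (hg : g ≠ 0) :
    ∏ Q ∈ hF.above P, symb Q f (algebraMap K K' g) = symb P (Algebra.norm K f) g := by
  have hF' : IsFF k K' := hF.ext
  have hP := deg_eq_one hF P
  have hN : ∀ {x : K'}, x ≠ 0 → Algebra.norm K x ≠ 0 := fun {x} hx => Algebra.norm_ne_zero_iff.2 hx
  have hi : ∀ {x : K}, x ≠ 0 → algebraMap K K' x ≠ 0 := fun {x} hx => (_root_.map_ne_zero _).2 hx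
  have step : ∀ {f : K'}, f ≠ 0 → (∀ Q : Place k K', IsOver Q P → Q.1 f ≤ 1) → ∀ {g : K}, g ≠ 0 →
      ∏ Q ∈ hF.above P, symb Q f (algebraMap K K' g) = symb P (Algebra.norm K f) g := by
    intro f hf hfi g hg
    rcases le_or_gt (P.1 g) 1 with h | h
    · exact symb_norm_integral hF P hf hfi hg h
    · have h' : P.1 g⁻¹ ≤ 1 := by rw [map_inv₀]; exact inv_le_one_of_one_le₀ h.le
      have e := symb_norm_integral hF P hf hfi (inv_ne_zero hg) h'
      have e1 := symb_norm_integral hF P hf hfi (g := 1) one_ne_zero (by rw [map_one])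
      rw [← mul_inv_cancel₀ hg, symb_mul_right hP (hN hf) hg (inv_ne_zero hg), map_mul,
        Finset.prod_congr rfl fun Q _ => symb_mul_right (deg_eq_one hF' Q) hf (hi hg) (hi (inv_ne_zero hg)),
        Finset.prod_mul_distrib, e] at e1
      exact mul_right_cancel₀ (symb_ne_zero hP (hN hf) (inv_ne_zero hg)) e1
  obtain ⟨c, hc, hci, hcf⟩ := exists_scale hF P hf
  have e := step (mul_ne_zero (hi hc) hf) hcf hg
  rw [map_mul, symb_mul_left hP (hN (hi hc)) (hN hf) hg,
    Finset.prod_congr rfl fun Q _ => symb_mul_left (deg_eq_one hF' Q) (hi hc) hf (hi hg),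
    Finset.prod_mul_distrib, step (hi hc) (fun Q hQ => (over_le_one_iff hQ c).2 hci) hg] at e
  exact mul_left_cancel₀ (symb_ne_zero hP (hN (hi hc)) hg) e

end Groth.MilnorKLambda.Recip
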