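import Groth.Agent.FunFld1.Rational
import Groth.Agent.MilnorKLambda.Tame1.Single

/-!
# Tame symbols at the places of a function field
-/

set_option autoImplicit false
universe u

open WithZero FunFld IsLocalRing Groth.FunFld1

namespace Groth.MilnorKLambda.Recip

variable {k K : Type u} [Field k] [Field K] [Algebra k K]

open Classical in
/-- The value in `k` of an element at a place (junk `0` if there is none). -/
noncomputable def ev (P : Place k K) (x : K) : k :=
  if h : ∃ c : k, P.1 (x - algebraMap k K c) < 1 then h.choose else 0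

theorem const_unique {P : Place k K} {x : K} {c c' : k} (h : P.1 (x - algebraMap k K c) < 1)
    (h' : P.1 (x - algebraMap k K c') < 1) : c = c' := by
  by_contra hne
  have h2 := (P.1.map_sub (x - algebraMap k K c) (x - algebraMap k K c')).trans_lt (max_lt h h')
  rw [sub_sub_sub_cancel_left, ← map_sub, val_algebraMap P (sub_ne_zero.2 (Ne.symm hne))] at h2
  exact lt_irrefl _ h2

theorem ev_eq {P : Place k K} {x : K} {c : k} (h : P.1 (x - algebraMap k K c) < 1) : ev P x = c := by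
  rw [ev, dif_pos ⟨c, h⟩]
  exact const_unique (Exists.choose_spec (⟨c, h⟩ : ∃ c : k, P.1 (x - algebraMap k K c) < 1)) h

theorem ev_algebraMap (P : Place k K) (c : k) : ev P (algebraMap k K c) = c :=
  ev_eq (by rw [sub_self, map_zero]; exact zero_lt_one)

theorem ev_one (P : Place k K) : ev P (1 : K) = 1 := by
  conv_lhs => rw [← map_one (algebraMap k K)]
  exact ev_algebraMap P 1

theorem ev_spec {P : Place k K} (hP : P.deg = 1) {x : K} (hx : P.1 x ≤ 1) :
    P.1 (x - algebraMap k K (ev P x)) < 1 := by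
  obtain ⟨c, hc⟩ := exists_const_sub_lt_one hP hx
  rwa [ev_eq hc]

theorem ev_mul {P : Place k K} (hP : P.deg = 1) {x y : K} (hx : P.1 x ≤ 1) (hy : P.1 y ≤ 1) :
    ev P (x * y) = ev P x * ev P y := by
  refine ev_eq ?_
  have h1 := ev_spec hP hx
  have h2 := ev_spec hP hy
  rw [show x * y - algebraMap k K (ev P x * ev P y) =
    (x - algebraMap k K (ev P x)) * y + algebraMap k K (ev P x) * (y - algebraMap k K (ev P y)) by rw [map_mul]; ring]
  refine (P.1.map_add _ _).trans_lt (max_lt ?_ ?_) <;> rw [map_mul]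
  · exact (mul_le_of_le_one_right' hy).trans_lt h1
  · exact (mul_le_of_le_one_left' (val_algebraMap_le P _)).trans_lt h2

theorem ev_ne_zero {P : Place k K} (hP : P.deg = 1) {x : K} (hx : P.1 x = 1) : ev P x ≠ 0 := fun h => by
  have h1 := ev_spec hP hx.le
  rw [h, map_zero, sub_zero, hx] at h1
  exact lt_irrefl _ h1

theorem ev_inv {P : Place k K} (hP : P.deg = 1) {x : K} (hx : P.1 x = 1) : ev P x⁻¹ = (ev P x)⁻¹ := by
  have hx0 : x ≠ 0 := fun h => by simp [h] at hx
  refine eq_inv_of_mul_eq_one_left ?_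
  rw [← ev_mul hP (by rw [map_inv₀, hx, inv_one]) hx.le, inv_mul_cancel₀ hx0, ev_one]

theorem ev_pow {P : Place k K} (hP : P.deg = 1) {x : K} (hx : P.1 x ≤ 1) (n : ℕ) : ev P (x ^ n) = ev P x ^ n := by
  induction n with
  | zero => rw [pow_zero, pow_zero, ev_one]
  | succ n ih => rw [pow_succ, pow_succ, ev_mul hP (by rw [map_pow]; exact pow_le_one₀ zero_le hx) hx, ih]

theorem ev_zpow {P : Place k K} (hP : P.deg = 1) {x : K} (hx : P.1 x = 1) (n : ℤ) : ev P (x ^ n) = ev P x ^ n := by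
  obtain ⟨m, rfl | rfl⟩ := Int.eq_nat_or_neg n
  · rw [zpow_natCast, zpow_natCast, ev_pow hP hx.le]
  · rw [zpow_neg, zpow_neg, zpow_natCast, zpow_natCast, ev_inv hP (by rw [map_pow, hx, one_pow]), ev_pow hP hx.le]

/-- The unit whose value is the symbol. -/
noncomputable def arg (P : Place k K) (f g : K) : K :=
  (-1) ^ (P.ord f * P.ord g) * f ^ P.ord g * g ^ (-P.ord f)

/-- The tame symbol at a place. -/
noncomputable def symb (P : Place k K) (f g : K) : k := ev P (arg P f g)

theorem val_neg_one (P : Place k K) : P.1 (-1 : K) = 1 := by rw [Valuation.map_neg, map_one]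

theorem val_arg (P : Place k K) {f g : K} (hf : f ≠ 0) (hg : g ≠ 0) : P.1 (arg P f g) = 1 := by
  rw [arg, map_mul, map_mul, map_zpow₀, map_zpow₀, map_zpow₀, val_neg_one, one_zpow, one_mul, val_eq_exp_neg_ord P hf,
    val_eq_exp_neg_ord P hg, ← exp_zsmul, ← exp_zsmul, ← exp_add, exp_eq_one]
  simp only [smul_eq_mul]
  ring

theorem arg_mul_left (P : Place k K) {f f' g : K} (hf : f ≠ 0) (hf' : f' ≠ 0) (hg : g ≠ 0) :
    arg P (f * f') g = arg P f g * arg P f' g := by
  simp only [arg, ord_mul P hf hf', add_mul, neg_add, zpow_add₀ (show (-1 : K) ≠ 0 from neg_ne_zero.2 one_ne_zero), zpow_add₀ hg, mul_zpow]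
  ring

theorem arg_mul_right (P : Place k K) {f g g' : K} (hf : f ≠ 0) (hg : g ≠ 0) (hg' : g' ≠ 0) :
    arg P f (g * g') = arg P f g * arg P f g' := by
  simp only [arg, ord_mul P hg hg', mul_add, zpow_add₀ (show (-1 : K) ≠ 0 from neg_ne_zero.2 one_ne_zero), zpow_add₀ hf, mul_zpow]
  ring

variable {P : Place k K} (hP : P.deg = 1)
include hP

theorem symb_mul_left {f f' g : K} (hf : f ≠ 0) (hf' : f' ≠ 0) (hg : g ≠ 0) :
    symb P (f * f') g = symb P f g * symb P f' g := by
  rw [symb, arg_mul_left P hf hf' hg, ev_mul hP (val_arg P hf hg).le (val_arg P hf' hg).le]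
  rfl

theorem symb_mul_right {f g g' : K} (hf : f ≠ 0) (hg : g ≠ 0) (hg' : g' ≠ 0) :
    symb P f (g * g') = symb P f g * symb P f g' := by
  rw [symb, arg_mul_right P hf hg hg', ev_mul hP (val_arg P hf hg).le (val_arg P hf hg').le]
  rfl

theorem symb_ne_zero {f g : K} (hf : f ≠ 0) (hg : g ≠ 0) : symb P f g ≠ 0 := ev_ne_zero hP (val_arg P hf hg)

theorem symb_swap {f g : K} (hf : f ≠ 0) (hg : g ≠ 0) : symb P g f = (symb P f g)⁻¹ := by
  rw [symb, symb, ← ev_inv hP (val_arg P hf hg)]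
  congr 1
  simp only [arg, zpow_neg, mul_inv, inv_inv, mul_comm (P.ord g) (P.ord f), ← inv_zpow, inv_neg, inv_one]
  ring

theorem symb_of_ord_left {f g : K} (hf : f ≠ 0) (h : P.ord f = 0) : symb P f g = ev P f ^ P.ord g := by
  rw [symb, arg, h, zero_mul, zpow_zero, one_mul, neg_zero, zpow_zero, mul_one,
    ev_zpow hP ((val_eq_one_iff P hf).2 h)]

theorem symb_of_ord_zero {f g : K} (hf : f ≠ 0) (h : P.ord f = 0) (h' : P.ord g = 0) : symb P f g = 1 := by
  rw [symb_of_ord_left hP hf h, h', zpow_zero]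

omit hP in
theorem symb_self_of (P : Place k K) {f : K} (hf : f ≠ 0) : symb P f f = (-1) ^ P.ord f := by
  rw [symb, arg, mul_assoc, ← zpow_add₀ hf, add_neg_cancel, zpow_zero, mul_one]
  have h : ((-1 : K)) ^ (P.ord f * P.ord f) = (-1) ^ P.ord f := by
    rcases Int.even_or_odd (P.ord f) with he | ho
    · rw [Even.neg_one_zpow (he.mul_right _), Even.neg_one_zpow he]
    · rw [Odd.neg_one_zpow (ho.mul ho), Odd.neg_one_zpow ho]
  rw [h, show ((-1 : K)) ^ P.ord f = algebraMap k K ((-1) ^ P.ord f) by rw [map_zpow₀, map_neg, map_one], ev_algebraMap]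

/-- The symbol read in a discrete valuation ring mapped into the place. -/
theorem symb_eq_tame {L : Type u} [CommRing L] [IsDomain L] [IsDiscreteValuationRing L] [Algebra k L]
    (j : L →+* K) (hj : Function.Injective j) (hc : ∀ c, j (algebraMap k L c) = algebraMap k K c)
    (hle : ∀ x, P.1 (j x) ≤ 1) (hlt : ∀ x, P.1 (j x) < 1 ↔ x ∈ maximalIdeal L)
    (hgen : ∀ z : K, ∃ a b, b ≠ 0 ∧ z = j a / j b) {x y : L} (hx : x ≠ 0) (hy : y ≠ 0) :
    algebraMap k (ResidueField L) (symb P (j x) (j y)) = CycAlg.tameSymbol L x y := by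
  obtain ⟨ϖ, hϖ⟩ := IsDiscreteValuationRing.exists_irreducible L
  have hϖm : maximalIdeal L = Ideal.span {ϖ} := (IsDiscreteValuationRing.irreducible_iff_uniformizer ϖ).1 hϖ
  have hϖ0 : j ϖ ≠ 0 := fun h => hϖ.ne_zero (hj (h.trans (map_zero j).symm))
  have hu : ∀ u : Lˣ, P.1 (j (u : L)) = 1 := fun u => le_antisymm (hle _) (not_lt.1 fun h =>
    (IsLocalRing.mem_maximalIdeal _).1 ((hlt _).1 h) u.isUnit)
  have hord : ∀ (a : L), a ≠ 0 → ∀ (n : ℕ) (u : Lˣ), a = u * ϖ ^ n → P.ord (j a) = n * P.ord (j ϖ) := by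
    rintro a ha n u rfl
    rw [map_mul, map_pow, ord_mul P (fun h => u.ne_zero (hj (h.trans (map_zero j).symm))) (pow_ne_zero _ hϖ0),
      (val_eq_one_iff P (fun h => u.ne_zero (hj (h.trans (map_zero j).symm)))).1 (hu u), zero_add]
    clear ha
    induction n with
    | zero => rw [pow_zero, Nat.cast_zero, zero_mul, ← map_one (algebraMap k K), ord_algebraMap]
    | succ n ih => rw [pow_succ, ord_mul P (pow_ne_zero _ hϖ0) hϖ0, ih]; push_cast; ring
  have h1 : P.ord (j ϖ) = 1 := by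
    have hpos : 0 < P.ord (j ϖ) := (val_lt_one_iff P hϖ0).1 ((hlt ϖ).2 (hϖm ▸ Ideal.mem_span_singleton_self ϖ))
    obtain ⟨t, ht0, ht⟩ := exists_uniformizer P
    obtain ⟨a, b, hb, hab⟩ := hgen t
    have ha : a ≠ 0 := fun h => ht0 (by rw [hab, h, map_zero, zero_div])
    obtain ⟨n, u, hn⟩ := IsDiscreteValuationRing.eq_unit_mul_pow_irreducible ha hϖ
    obtain ⟨m, v, hm⟩ := IsDiscreteValuationRing.eq_unit_mul_pow_irreducible hb hϖ
    have h := ord_eq_of_val_eq P ht
    have hja : j a ≠ 0 := fun h => ha (hj (h.trans (map_zero j).symm))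
    have hjb : j b ≠ 0 := fun h => hb (hj (h.trans (map_zero j).symm))
    rw [hab, div_eq_mul_inv, ord_mul P hja (inv_ne_zero hjb), ord_inv, hord a ha n u hn, hord b hb m v hm] at h
    exact Int.eq_one_of_dvd_one hpos.le ⟨(n : ℤ) - m, by linear_combination -h⟩
  obtain ⟨n, u, hn⟩ := IsDiscreteValuationRing.eq_unit_mul_pow_irreducible hx hϖ
  obtain ⟨m, v, hm⟩ := IsDiscreteValuationRing.eq_unit_mul_pow_irreducible hy hϖ
  let F : Amb.Fact ϖ x := ⟨u, n, hn⟩
  let G : Amb.Fact ϖ y := ⟨v, m, hm⟩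
  rw [Amb.tameSymbol_eq_fact (mem_nonZeroDivisors_of_ne_zero hϖ.ne_zero) F G, Amb.Fact.val,
    show Ring.ord L ϖ = 1 from by
      have : IsSimpleModule L (L ⧸ Ideal.span {ϖ}) := by
        rw [isSimpleModule_iff_isCoatom, ← Ideal.isMaximal_def, ← hϖm]; exact maximalIdeal.isMaximal L
      exact Module.length_eq_one L _, ENat.toNat_one, pow_one]
  set w : L := (-1) ^ (n * m) * (u : L) ^ m * (((v⁻¹ : Lˣ) : L)) ^ n
  have hexpr : F.expr G = residue L w := by
    have hres : residue L ((v⁻¹ : Lˣ) : L) = (residue L (v : L))⁻¹ := eq_inv_of_mul_eq_one_left (by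
      rw [← map_mul, Units.inv_mul, map_one])
    simp only [Amb.Fact.expr, Amb.Fact.res, F, G, w, map_mul, map_pow, map_neg, map_one, hres, inv_pow]
  have harg : arg P (j x) (j y) = j w := by
    have hu0 : j (u : L) ≠ 0 := fun h => u.ne_zero (hj (h.trans (map_zero j).symm))
    have hv0 : j (v : L) ≠ 0 := fun h => v.ne_zero (hj (h.trans (map_zero j).symm))
    have hinv : j ((v⁻¹ : Lˣ) : L) = (j (v : L))⁻¹ := eq_inv_of_mul_eq_one_left (by
      rw [← map_mul, Units.inv_mul, map_one])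
    rw [arg, hord x hx n u hn, hord y hy m v hm, h1, mul_one, mul_one, hn, hm, zpow_neg, zpow_natCast, zpow_natCast,
      ← Nat.cast_mul, zpow_natCast]
    simp only [w, map_mul, map_pow, map_neg, map_one, hinv, mul_pow, ← pow_mul, inv_pow]
    field_simp
    rw [mul_comm m n]
  have hw : P.1 (j w - algebraMap k K (symb P (j x) (j y))) < 1 := by
    rw [symb, harg]
    exact ev_spec hP (hle w)
  rw [← hc, ← map_sub, hlt, ← IsLocalRing.residue_eq_zero_iff, map_sub, sub_eq_zero] at hw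
  rw [hexpr, hw, IsScalarTower.algebraMap_apply k L (ResidueField L), ResidueField.algebraMap_eq]

end Groth.MilnorKLambda.Recip
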